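import Cfsg.Agent.Lib.ToddCox.J1X.P0
set_option autoImplicit false
set_option maxRecDepth 100000
namespace Cfsg.Agent.Lib.ToddCox.J1X
theorem covered : Covered Eo inv W isH 79340 143129 := (Covered.trans (Covered.trans (Covered.trans (Covered.trans (Covered.trans c0 c1) (Covered.trans c2 c3)) (Covered.trans (Covered.trans c4 c5) (Covered.trans c6 c7))) (Covered.trans (Covered.trans (Covered.trans c8 c9) (Covered.trans c10 c11)) (Covered.trans (Covered.trans c12 c13) (Covered.trans c14 c15)))) (Covered.trans (Covered.trans (Covered.trans (Covered.trans c16 c17) (Covered.trans c18 c19)) (Covered.trans (Covered.trans c20 c21) (Covered.trans c22 c23))) (Covered.trans (Covered.trans (Covered.trans c24 c25) (Covered.trans c26 c27)) (Covered.trans (Covered.trans c28 c29) (Covered.trans c30 (Covered.trans c31 c32))))))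
theorem links : LinksOK Eo cF (2 * nEv) N ys 0 1 := k0
theorem defs : ∀ c, c < nDef → chkDef Eo inv c = true := defs_of_bits 79340 13 10 (by norm_num) (by
  intro j hj
  interval_cases j
  · exact d0
  · exact d1
  · exact d2
  · exact d3
  · exact d4
  · exact d5
  · exact d6
  · exact d7
  · exact d8
  · exact d9
  )
theorem words : ∀ j, j < nW → wordsOK W (relR Rb inv) inv sp j = true := allBelow_spec (by norm_num [nW]) wordsGood
end Cfsg.Agent.Lib.ToddCox.J1X
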