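import Cfsg.Agent.Lib.ToddCox.J1X.Data0
set_option autoImplicit false
set_option maxRecDepth 100000
namespace Cfsg.Agent.Lib.ToddCox.J1X
def eT_0_2 (j : ℕ) : ℕ := bif Nat.blt j 1 then E_0 else E_1
def eT_2_4 (j : ℕ) : ℕ := bif Nat.blt j 3 then E_2 else E_3
def eT_0_4 (j : ℕ) : ℕ := bif Nat.blt j 2 then (eT_0_2 j) else (eT_2_4 j)
def eT_4_6 (j : ℕ) : ℕ := bif Nat.blt j 5 then E_4 else E_5
def eT_6_8 (j : ℕ) : ℕ := bif Nat.blt j 7 then E_6 else E_7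
def eT_4_8 (j : ℕ) : ℕ := bif Nat.blt j 6 then (eT_4_6 j) else (eT_6_8 j)
def eT_0_8 (j : ℕ) : ℕ := bif Nat.blt j 4 then (eT_0_4 j) else (eT_4_8 j)
def eT_8_10 (j : ℕ) : ℕ := bif Nat.blt j 9 then E_8 else E_9
def eT_10_12 (j : ℕ) : ℕ := bif Nat.blt j 11 then E_10 else E_11
def eT_8_12 (j : ℕ) : ℕ := bif Nat.blt j 10 then (eT_8_10 j) else (eT_10_12 j)
def eT_12_14 (j : ℕ) : ℕ := bif Nat.blt j 13 then E_12 else E_13
def eT_15_17 (j : ℕ) : ℕ := bif Nat.blt j 16 then E_15 else E_16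
def eT_14_17 (j : ℕ) : ℕ := bif Nat.blt j 15 then E_14 else (eT_15_17 j)
def eT_12_17 (j : ℕ) : ℕ := bif Nat.blt j 14 then (eT_12_14 j) else (eT_14_17 j)
def eT_8_17 (j : ℕ) : ℕ := bif Nat.blt j 12 then (eT_8_12 j) else (eT_12_17 j)
def eT_0_17 (j : ℕ) : ℕ := bif Nat.blt j 8 then (eT_0_8 j) else (eT_8_17 j)
def eT_17_19 (j : ℕ) : ℕ := bif Nat.blt j 18 then E_17 else E_18
def eT_19_21 (j : ℕ) : ℕ := bif Nat.blt j 20 then E_19 else E_20
def eT_17_21 (j : ℕ) : ℕ := bif Nat.blt j 19 then (eT_17_19 j) else (eT_19_21 j)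
def eT_21_23 (j : ℕ) : ℕ := bif Nat.blt j 22 then E_21 else E_22
def eT_23_25 (j : ℕ) : ℕ := bif Nat.blt j 24 then E_23 else E_24
def eT_21_25 (j : ℕ) : ℕ := bif Nat.blt j 23 then (eT_21_23 j) else (eT_23_25 j)
def eT_17_25 (j : ℕ) : ℕ := bif Nat.blt j 21 then (eT_17_21 j) else (eT_21_25 j)
def eT_25_27 (j : ℕ) : ℕ := bif Nat.blt j 26 then E_25 else E_26
def eT_27_29 (j : ℕ) : ℕ := bif Nat.blt j 28 then E_27 else E_28
def eT_25_29 (j : ℕ) : ℕ := bif Nat.blt j 27 then (eT_25_27 j) else (eT_27_29 j)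
def eT_29_31 (j : ℕ) : ℕ := bif Nat.blt j 30 then E_29 else E_30
def eT_32_34 (j : ℕ) : ℕ := bif Nat.blt j 33 then E_32 else E_33
def eT_31_34 (j : ℕ) : ℕ := bif Nat.blt j 32 then E_31 else (eT_32_34 j)
def eT_29_34 (j : ℕ) : ℕ := bif Nat.blt j 31 then (eT_29_31 j) else (eT_31_34 j)
def eT_25_34 (j : ℕ) : ℕ := bif Nat.blt j 29 then (eT_25_29 j) else (eT_29_34 j)
def eT_17_34 (j : ℕ) : ℕ := bif Nat.blt j 25 then (eT_17_25 j) else (eT_25_34 j)
def eT_0_34 (j : ℕ) : ℕ := bif Nat.blt j 17 then (eT_0_17 j) else (eT_17_34 j)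
def eT_34_36 (j : ℕ) : ℕ := bif Nat.blt j 35 then E_34 else E_35
def eT_36_38 (j : ℕ) : ℕ := bif Nat.blt j 37 then E_36 else E_37
def eT_34_38 (j : ℕ) : ℕ := bif Nat.blt j 36 then (eT_34_36 j) else (eT_36_38 j)
def eT_38_40 (j : ℕ) : ℕ := bif Nat.blt j 39 then E_38 else E_39
def eT_40_42 (j : ℕ) : ℕ := bif Nat.blt j 41 then E_40 else E_41
def eT_38_42 (j : ℕ) : ℕ := bif Nat.blt j 40 then (eT_38_40 j) else (eT_40_42 j)
def eT_34_42 (j : ℕ) : ℕ := bif Nat.blt j 38 then (eT_34_38 j) else (eT_38_42 j)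
def eT_42_44 (j : ℕ) : ℕ := bif Nat.blt j 43 then E_42 else E_43
def eT_44_46 (j : ℕ) : ℕ := bif Nat.blt j 45 then E_44 else E_45
def eT_42_46 (j : ℕ) : ℕ := bif Nat.blt j 44 then (eT_42_44 j) else (eT_44_46 j)
def eT_46_48 (j : ℕ) : ℕ := bif Nat.blt j 47 then E_46 else E_47
def eT_49_51 (j : ℕ) : ℕ := bif Nat.blt j 50 then E_49 else E_50
def eT_48_51 (j : ℕ) : ℕ := bif Nat.blt j 49 then E_48 else (eT_49_51 j)
def eT_46_51 (j : ℕ) : ℕ := bif Nat.blt j 48 then (eT_46_48 j) else (eT_48_51 j)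
def eT_42_51 (j : ℕ) : ℕ := bif Nat.blt j 46 then (eT_42_46 j) else (eT_46_51 j)
def eT_34_51 (j : ℕ) : ℕ := bif Nat.blt j 42 then (eT_34_42 j) else (eT_42_51 j)
def eT_51_53 (j : ℕ) : ℕ := bif Nat.blt j 52 then E_51 else E_52
def eT_53_55 (j : ℕ) : ℕ := bif Nat.blt j 54 then E_53 else E_54
def eT_51_55 (j : ℕ) : ℕ := bif Nat.blt j 53 then (eT_51_53 j) else (eT_53_55 j)
def eT_55_57 (j : ℕ) : ℕ := bif Nat.blt j 56 then E_55 else E_56
def eT_58_60 (j : ℕ) : ℕ := bif Nat.blt j 59 then E_58 else E_59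
def eT_57_60 (j : ℕ) : ℕ := bif Nat.blt j 58 then E_57 else (eT_58_60 j)
def eT_55_60 (j : ℕ) : ℕ := bif Nat.blt j 57 then (eT_55_57 j) else (eT_57_60 j)
def eT_51_60 (j : ℕ) : ℕ := bif Nat.blt j 55 then (eT_51_55 j) else (eT_55_60 j)
def eT_60_62 (j : ℕ) : ℕ := bif Nat.blt j 61 then E_60 else E_61
def eT_62_64 (j : ℕ) : ℕ := bif Nat.blt j 63 then E_62 else E_63
def eT_60_64 (j : ℕ) : ℕ := bif Nat.blt j 62 then (eT_60_62 j) else (eT_62_64 j)
def eT_64_66 (j : ℕ) : ℕ := bif Nat.blt j 65 then E_64 else E_65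
def eT_67_69 (j : ℕ) : ℕ := bif Nat.blt j 68 then E_67 else E_68
def eT_66_69 (j : ℕ) : ℕ := bif Nat.blt j 67 then E_66 else (eT_67_69 j)
def eT_64_69 (j : ℕ) : ℕ := bif Nat.blt j 66 then (eT_64_66 j) else (eT_66_69 j)
def eT_60_69 (j : ℕ) : ℕ := bif Nat.blt j 64 then (eT_60_64 j) else (eT_64_69 j)
def eT_51_69 (j : ℕ) : ℕ := bif Nat.blt j 60 then (eT_51_60 j) else (eT_60_69 j)
def eT_34_69 (j : ℕ) : ℕ := bif Nat.blt j 51 then (eT_34_51 j) else (eT_51_69 j)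
def eT_0_69 (j : ℕ) : ℕ := bif Nat.blt j 34 then (eT_0_34 j) else (eT_34_69 j)
def eT_69_71 (j : ℕ) : ℕ := bif Nat.blt j 70 then E_69 else E_70
def eT_71_73 (j : ℕ) : ℕ := bif Nat.blt j 72 then E_71 else E_72
def eT_69_73 (j : ℕ) : ℕ := bif Nat.blt j 71 then (eT_69_71 j) else (eT_71_73 j)
def eT_73_75 (j : ℕ) : ℕ := bif Nat.blt j 74 then E_73 else E_74
def eT_75_77 (j : ℕ) : ℕ := bif Nat.blt j 76 then E_75 else E_76
def eT_73_77 (j : ℕ) : ℕ := bif Nat.blt j 75 then (eT_73_75 j) else (eT_75_77 j)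
def eT_69_77 (j : ℕ) : ℕ := bif Nat.blt j 73 then (eT_69_73 j) else (eT_73_77 j)
def eT_77_79 (j : ℕ) : ℕ := bif Nat.blt j 78 then E_77 else E_78
def eT_79_81 (j : ℕ) : ℕ := bif Nat.blt j 80 then E_79 else E_80
def eT_77_81 (j : ℕ) : ℕ := bif Nat.blt j 79 then (eT_77_79 j) else (eT_79_81 j)
def eT_81_83 (j : ℕ) : ℕ := bif Nat.blt j 82 then E_81 else E_82
def eT_84_86 (j : ℕ) : ℕ := bif Nat.blt j 85 then E_84 else E_85
def eT_83_86 (j : ℕ) : ℕ := bif Nat.blt j 84 then E_83 else (eT_84_86 j)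
def eT_81_86 (j : ℕ) : ℕ := bif Nat.blt j 83 then (eT_81_83 j) else (eT_83_86 j)
def eT_77_86 (j : ℕ) : ℕ := bif Nat.blt j 81 then (eT_77_81 j) else (eT_81_86 j)
def eT_69_86 (j : ℕ) : ℕ := bif Nat.blt j 77 then (eT_69_77 j) else (eT_77_86 j)
def eT_86_88 (j : ℕ) : ℕ := bif Nat.blt j 87 then E_86 else E_87
def eT_88_90 (j : ℕ) : ℕ := bif Nat.blt j 89 then E_88 else E_89
def eT_86_90 (j : ℕ) : ℕ := bif Nat.blt j 88 then (eT_86_88 j) else (eT_88_90 j)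
def eT_90_92 (j : ℕ) : ℕ := bif Nat.blt j 91 then E_90 else E_91
def eT_93_95 (j : ℕ) : ℕ := bif Nat.blt j 94 then E_93 else E_94
def eT_92_95 (j : ℕ) : ℕ := bif Nat.blt j 93 then E_92 else (eT_93_95 j)
def eT_90_95 (j : ℕ) : ℕ := bif Nat.blt j 92 then (eT_90_92 j) else (eT_92_95 j)
def eT_86_95 (j : ℕ) : ℕ := bif Nat.blt j 90 then (eT_86_90 j) else (eT_90_95 j)
def eT_95_97 (j : ℕ) : ℕ := bif Nat.blt j 96 then E_95 else E_96
def eT_97_99 (j : ℕ) : ℕ := bif Nat.blt j 98 then E_97 else E_98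
def eT_95_99 (j : ℕ) : ℕ := bif Nat.blt j 97 then (eT_95_97 j) else (eT_97_99 j)
def eT_99_101 (j : ℕ) : ℕ := bif Nat.blt j 100 then E_99 else E_100
def eT_102_104 (j : ℕ) : ℕ := bif Nat.blt j 103 then E_102 else E_103
def eT_101_104 (j : ℕ) : ℕ := bif Nat.blt j 102 then E_101 else (eT_102_104 j)
def eT_99_104 (j : ℕ) : ℕ := bif Nat.blt j 101 then (eT_99_101 j) else (eT_101_104 j)
def eT_95_104 (j : ℕ) : ℕ := bif Nat.blt j 99 then (eT_95_99 j) else (eT_99_104 j)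
def eT_86_104 (j : ℕ) : ℕ := bif Nat.blt j 95 then (eT_86_95 j) else (eT_95_104 j)
def eT_69_104 (j : ℕ) : ℕ := bif Nat.blt j 86 then (eT_69_86 j) else (eT_86_104 j)
def eT_104_106 (j : ℕ) : ℕ := bif Nat.blt j 105 then E_104 else E_105
def eT_106_108 (j : ℕ) : ℕ := bif Nat.blt j 107 then E_106 else E_107
def eT_104_108 (j : ℕ) : ℕ := bif Nat.blt j 106 then (eT_104_106 j) else (eT_106_108 j)
def eT_108_110 (j : ℕ) : ℕ := bif Nat.blt j 109 then E_108 else E_109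
def eT_110_112 (j : ℕ) : ℕ := bif Nat.blt j 111 then E_110 else E_111
def eT_108_112 (j : ℕ) : ℕ := bif Nat.blt j 110 then (eT_108_110 j) else (eT_110_112 j)
def eT_104_112 (j : ℕ) : ℕ := bif Nat.blt j 108 then (eT_104_108 j) else (eT_108_112 j)
def eT_112_114 (j : ℕ) : ℕ := bif Nat.blt j 113 then E_112 else E_113
def eT_114_116 (j : ℕ) : ℕ := bif Nat.blt j 115 then E_114 else E_115
def eT_112_116 (j : ℕ) : ℕ := bif Nat.blt j 114 then (eT_112_114 j) else (eT_114_116 j)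
def eT_116_118 (j : ℕ) : ℕ := bif Nat.blt j 117 then E_116 else E_117
def eT_119_121 (j : ℕ) : ℕ := bif Nat.blt j 120 then E_119 else E_120
def eT_118_121 (j : ℕ) : ℕ := bif Nat.blt j 119 then E_118 else (eT_119_121 j)
def eT_116_121 (j : ℕ) : ℕ := bif Nat.blt j 118 then (eT_116_118 j) else (eT_118_121 j)
def eT_112_121 (j : ℕ) : ℕ := bif Nat.blt j 116 then (eT_112_116 j) else (eT_116_121 j)
def eT_104_121 (j : ℕ) : ℕ := bif Nat.blt j 112 then (eT_104_112 j) else (eT_112_121 j)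
def eT_121_123 (j : ℕ) : ℕ := bif Nat.blt j 122 then E_121 else E_122
def eT_123_125 (j : ℕ) : ℕ := bif Nat.blt j 124 then E_123 else E_124
def eT_121_125 (j : ℕ) : ℕ := bif Nat.blt j 123 then (eT_121_123 j) else (eT_123_125 j)
def eT_125_127 (j : ℕ) : ℕ := bif Nat.blt j 126 then E_125 else E_126
def eT_128_130 (j : ℕ) : ℕ := bif Nat.blt j 129 then E_128 else E_129
def eT_127_130 (j : ℕ) : ℕ := bif Nat.blt j 128 then E_127 else (eT_128_130 j)
def eT_125_130 (j : ℕ) : ℕ := bif Nat.blt j 127 then (eT_125_127 j) else (eT_127_130 j)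
def eT_121_130 (j : ℕ) : ℕ := bif Nat.blt j 125 then (eT_121_125 j) else (eT_125_130 j)
def eT_130_132 (j : ℕ) : ℕ := bif Nat.blt j 131 then E_130 else E_131
def eT_132_134 (j : ℕ) : ℕ := bif Nat.blt j 133 then E_132 else E_133
def eT_130_134 (j : ℕ) : ℕ := bif Nat.blt j 132 then (eT_130_132 j) else (eT_132_134 j)
def eT_134_136 (j : ℕ) : ℕ := bif Nat.blt j 135 then E_134 else E_135
def eT_137_139 (j : ℕ) : ℕ := bif Nat.blt j 138 then E_137 else E_138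
def eT_136_139 (j : ℕ) : ℕ := bif Nat.blt j 137 then E_136 else (eT_137_139 j)
def eT_134_139 (j : ℕ) : ℕ := bif Nat.blt j 136 then (eT_134_136 j) else (eT_136_139 j)
def eT_130_139 (j : ℕ) : ℕ := bif Nat.blt j 134 then (eT_130_134 j) else (eT_134_139 j)
def eT_121_139 (j : ℕ) : ℕ := bif Nat.blt j 130 then (eT_121_130 j) else (eT_130_139 j)
def eT_104_139 (j : ℕ) : ℕ := bif Nat.blt j 121 then (eT_104_121 j) else (eT_121_139 j)
def eT_69_139 (j : ℕ) : ℕ := bif Nat.blt j 104 then (eT_69_104 j) else (eT_104_139 j)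
def eT_0_139 (j : ℕ) : ℕ := bif Nat.blt j 69 then (eT_0_69 j) else (eT_69_139 j)
def eT_139_141 (j : ℕ) : ℕ := bif Nat.blt j 140 then E_139 else E_140
def eT_141_143 (j : ℕ) : ℕ := bif Nat.blt j 142 then E_141 else E_142
def eT_139_143 (j : ℕ) : ℕ := bif Nat.blt j 141 then (eT_139_141 j) else (eT_141_143 j)
def eT_143_145 (j : ℕ) : ℕ := bif Nat.blt j 144 then E_143 else E_144
def eT_145_147 (j : ℕ) : ℕ := bif Nat.blt j 146 then E_145 else E_146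
def eT_143_147 (j : ℕ) : ℕ := bif Nat.blt j 145 then (eT_143_145 j) else (eT_145_147 j)
def eT_139_147 (j : ℕ) : ℕ := bif Nat.blt j 143 then (eT_139_143 j) else (eT_143_147 j)
def eT_147_149 (j : ℕ) : ℕ := bif Nat.blt j 148 then E_147 else E_148
def eT_149_151 (j : ℕ) : ℕ := bif Nat.blt j 150 then E_149 else E_150
def eT_147_151 (j : ℕ) : ℕ := bif Nat.blt j 149 then (eT_147_149 j) else (eT_149_151 j)
def eT_151_153 (j : ℕ) : ℕ := bif Nat.blt j 152 then E_151 else E_152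
def eT_154_156 (j : ℕ) : ℕ := bif Nat.blt j 155 then E_154 else E_155
def eT_153_156 (j : ℕ) : ℕ := bif Nat.blt j 154 then E_153 else (eT_154_156 j)
def eT_151_156 (j : ℕ) : ℕ := bif Nat.blt j 153 then (eT_151_153 j) else (eT_153_156 j)
def eT_147_156 (j : ℕ) : ℕ := bif Nat.blt j 151 then (eT_147_151 j) else (eT_151_156 j)
def eT_139_156 (j : ℕ) : ℕ := bif Nat.blt j 147 then (eT_139_147 j) else (eT_147_156 j)
def eT_156_158 (j : ℕ) : ℕ := bif Nat.blt j 157 then E_156 else E_157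
def eT_158_160 (j : ℕ) : ℕ := bif Nat.blt j 159 then E_158 else E_159
def eT_156_160 (j : ℕ) : ℕ := bif Nat.blt j 158 then (eT_156_158 j) else (eT_158_160 j)
def eT_160_162 (j : ℕ) : ℕ := bif Nat.blt j 161 then E_160 else E_161
def eT_163_165 (j : ℕ) : ℕ := bif Nat.blt j 164 then E_163 else E_164
def eT_162_165 (j : ℕ) : ℕ := bif Nat.blt j 163 then E_162 else (eT_163_165 j)
def eT_160_165 (j : ℕ) : ℕ := bif Nat.blt j 162 then (eT_160_162 j) else (eT_162_165 j)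
def eT_156_165 (j : ℕ) : ℕ := bif Nat.blt j 160 then (eT_156_160 j) else (eT_160_165 j)
def eT_165_167 (j : ℕ) : ℕ := bif Nat.blt j 166 then E_165 else E_166
def eT_167_169 (j : ℕ) : ℕ := bif Nat.blt j 168 then E_167 else E_168
def eT_165_169 (j : ℕ) : ℕ := bif Nat.blt j 167 then (eT_165_167 j) else (eT_167_169 j)
def eT_169_171 (j : ℕ) : ℕ := bif Nat.blt j 170 then E_169 else E_170
def eT_172_174 (j : ℕ) : ℕ := bif Nat.blt j 173 then E_172 else E_173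
def eT_171_174 (j : ℕ) : ℕ := bif Nat.blt j 172 then E_171 else (eT_172_174 j)
def eT_169_174 (j : ℕ) : ℕ := bif Nat.blt j 171 then (eT_169_171 j) else (eT_171_174 j)
def eT_165_174 (j : ℕ) : ℕ := bif Nat.blt j 169 then (eT_165_169 j) else (eT_169_174 j)
def eT_156_174 (j : ℕ) : ℕ := bif Nat.blt j 165 then (eT_156_165 j) else (eT_165_174 j)
def eT_139_174 (j : ℕ) : ℕ := bif Nat.blt j 156 then (eT_139_156 j) else (eT_156_174 j)
def eT_174_176 (j : ℕ) : ℕ := bif Nat.blt j 175 then E_174 else E_175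
def eT_176_178 (j : ℕ) : ℕ := bif Nat.blt j 177 then E_176 else E_177
def eT_174_178 (j : ℕ) : ℕ := bif Nat.blt j 176 then (eT_174_176 j) else (eT_176_178 j)
def eT_178_180 (j : ℕ) : ℕ := bif Nat.blt j 179 then E_178 else E_179
def eT_180_182 (j : ℕ) : ℕ := bif Nat.blt j 181 then E_180 else E_181
def eT_178_182 (j : ℕ) : ℕ := bif Nat.blt j 180 then (eT_178_180 j) else (eT_180_182 j)
def eT_174_182 (j : ℕ) : ℕ := bif Nat.blt j 178 then (eT_174_178 j) else (eT_178_182 j)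
def eT_182_184 (j : ℕ) : ℕ := bif Nat.blt j 183 then E_182 else E_183
def eT_184_186 (j : ℕ) : ℕ := bif Nat.blt j 185 then E_184 else E_185
def eT_182_186 (j : ℕ) : ℕ := bif Nat.blt j 184 then (eT_182_184 j) else (eT_184_186 j)
def eT_186_188 (j : ℕ) : ℕ := bif Nat.blt j 187 then E_186 else E_187
def eT_189_191 (j : ℕ) : ℕ := bif Nat.blt j 190 then E_189 else E_190
def eT_188_191 (j : ℕ) : ℕ := bif Nat.blt j 189 then E_188 else (eT_189_191 j)
def eT_186_191 (j : ℕ) : ℕ := bif Nat.blt j 188 then (eT_186_188 j) else (eT_188_191 j)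
def eT_182_191 (j : ℕ) : ℕ := bif Nat.blt j 186 then (eT_182_186 j) else (eT_186_191 j)
def eT_174_191 (j : ℕ) : ℕ := bif Nat.blt j 182 then (eT_174_182 j) else (eT_182_191 j)
def eT_191_193 (j : ℕ) : ℕ := bif Nat.blt j 192 then E_191 else E_192
def eT_193_195 (j : ℕ) : ℕ := bif Nat.blt j 194 then E_193 else E_194
def eT_191_195 (j : ℕ) : ℕ := bif Nat.blt j 193 then (eT_191_193 j) else (eT_193_195 j)
def eT_195_197 (j : ℕ) : ℕ := bif Nat.blt j 196 then E_195 else E_196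
def eT_198_200 (j : ℕ) : ℕ := bif Nat.blt j 199 then E_198 else E_199
def eT_197_200 (j : ℕ) : ℕ := bif Nat.blt j 198 then E_197 else (eT_198_200 j)
def eT_195_200 (j : ℕ) : ℕ := bif Nat.blt j 197 then (eT_195_197 j) else (eT_197_200 j)
def eT_191_200 (j : ℕ) : ℕ := bif Nat.blt j 195 then (eT_191_195 j) else (eT_195_200 j)
def eT_200_202 (j : ℕ) : ℕ := bif Nat.blt j 201 then E_200 else E_201
def eT_202_204 (j : ℕ) : ℕ := bif Nat.blt j 203 then E_202 else E_203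
def eT_200_204 (j : ℕ) : ℕ := bif Nat.blt j 202 then (eT_200_202 j) else (eT_202_204 j)
def eT_204_206 (j : ℕ) : ℕ := bif Nat.blt j 205 then E_204 else E_205
def eT_207_209 (j : ℕ) : ℕ := bif Nat.blt j 208 then E_207 else E_208
def eT_206_209 (j : ℕ) : ℕ := bif Nat.blt j 207 then E_206 else (eT_207_209 j)
def eT_204_209 (j : ℕ) : ℕ := bif Nat.blt j 206 then (eT_204_206 j) else (eT_206_209 j)
def eT_200_209 (j : ℕ) : ℕ := bif Nat.blt j 204 then (eT_200_204 j) else (eT_204_209 j)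
def eT_191_209 (j : ℕ) : ℕ := bif Nat.blt j 200 then (eT_191_200 j) else (eT_200_209 j)
def eT_174_209 (j : ℕ) : ℕ := bif Nat.blt j 191 then (eT_174_191 j) else (eT_191_209 j)
def eT_139_209 (j : ℕ) : ℕ := bif Nat.blt j 174 then (eT_139_174 j) else (eT_174_209 j)
def eT_209_211 (j : ℕ) : ℕ := bif Nat.blt j 210 then E_209 else E_210
def eT_211_213 (j : ℕ) : ℕ := bif Nat.blt j 212 then E_211 else E_212
def eT_209_213 (j : ℕ) : ℕ := bif Nat.blt j 211 then (eT_209_211 j) else (eT_211_213 j)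
def eT_213_215 (j : ℕ) : ℕ := bif Nat.blt j 214 then E_213 else E_214
def eT_215_217 (j : ℕ) : ℕ := bif Nat.blt j 216 then E_215 else E_216
def eT_213_217 (j : ℕ) : ℕ := bif Nat.blt j 215 then (eT_213_215 j) else (eT_215_217 j)
def eT_209_217 (j : ℕ) : ℕ := bif Nat.blt j 213 then (eT_209_213 j) else (eT_213_217 j)
def eT_217_219 (j : ℕ) : ℕ := bif Nat.blt j 218 then E_217 else E_218
def eT_219_221 (j : ℕ) : ℕ := bif Nat.blt j 220 then E_219 else E_220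
def eT_217_221 (j : ℕ) : ℕ := bif Nat.blt j 219 then (eT_217_219 j) else (eT_219_221 j)
def eT_221_223 (j : ℕ) : ℕ := bif Nat.blt j 222 then E_221 else E_222
def eT_224_226 (j : ℕ) : ℕ := bif Nat.blt j 225 then E_224 else E_225
def eT_223_226 (j : ℕ) : ℕ := bif Nat.blt j 224 then E_223 else (eT_224_226 j)
def eT_221_226 (j : ℕ) : ℕ := bif Nat.blt j 223 then (eT_221_223 j) else (eT_223_226 j)
def eT_217_226 (j : ℕ) : ℕ := bif Nat.blt j 221 then (eT_217_221 j) else (eT_221_226 j)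
def eT_209_226 (j : ℕ) : ℕ := bif Nat.blt j 217 then (eT_209_217 j) else (eT_217_226 j)
def eT_226_228 (j : ℕ) : ℕ := bif Nat.blt j 227 then E_226 else E_227
def eT_228_230 (j : ℕ) : ℕ := bif Nat.blt j 229 then E_228 else E_229
def eT_226_230 (j : ℕ) : ℕ := bif Nat.blt j 228 then (eT_226_228 j) else (eT_228_230 j)
def eT_230_232 (j : ℕ) : ℕ := bif Nat.blt j 231 then E_230 else E_231
def eT_233_235 (j : ℕ) : ℕ := bif Nat.blt j 234 then E_233 else E_234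
def eT_232_235 (j : ℕ) : ℕ := bif Nat.blt j 233 then E_232 else (eT_233_235 j)
def eT_230_235 (j : ℕ) : ℕ := bif Nat.blt j 232 then (eT_230_232 j) else (eT_232_235 j)
def eT_226_235 (j : ℕ) : ℕ := bif Nat.blt j 230 then (eT_226_230 j) else (eT_230_235 j)
def eT_235_237 (j : ℕ) : ℕ := bif Nat.blt j 236 then E_235 else E_236
def eT_237_239 (j : ℕ) : ℕ := bif Nat.blt j 238 then E_237 else E_238
def eT_235_239 (j : ℕ) : ℕ := bif Nat.blt j 237 then (eT_235_237 j) else (eT_237_239 j)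
def eT_239_241 (j : ℕ) : ℕ := bif Nat.blt j 240 then E_239 else E_240
def eT_242_244 (j : ℕ) : ℕ := bif Nat.blt j 243 then E_242 else E_243
def eT_241_244 (j : ℕ) : ℕ := bif Nat.blt j 242 then E_241 else (eT_242_244 j)
def eT_239_244 (j : ℕ) : ℕ := bif Nat.blt j 241 then (eT_239_241 j) else (eT_241_244 j)
def eT_235_244 (j : ℕ) : ℕ := bif Nat.blt j 239 then (eT_235_239 j) else (eT_239_244 j)
def eT_226_244 (j : ℕ) : ℕ := bif Nat.blt j 235 then (eT_226_235 j) else (eT_235_244 j)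
def eT_209_244 (j : ℕ) : ℕ := bif Nat.blt j 226 then (eT_209_226 j) else (eT_226_244 j)
def eT_244_246 (j : ℕ) : ℕ := bif Nat.blt j 245 then E_244 else E_245
def eT_246_248 (j : ℕ) : ℕ := bif Nat.blt j 247 then E_246 else E_247
def eT_244_248 (j : ℕ) : ℕ := bif Nat.blt j 246 then (eT_244_246 j) else (eT_246_248 j)
def eT_248_250 (j : ℕ) : ℕ := bif Nat.blt j 249 then E_248 else E_249
def eT_250_252 (j : ℕ) : ℕ := bif Nat.blt j 251 then E_250 else E_251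
def eT_248_252 (j : ℕ) : ℕ := bif Nat.blt j 250 then (eT_248_250 j) else (eT_250_252 j)
def eT_244_252 (j : ℕ) : ℕ := bif Nat.blt j 248 then (eT_244_248 j) else (eT_248_252 j)
def eT_252_254 (j : ℕ) : ℕ := bif Nat.blt j 253 then E_252 else E_253
def eT_254_256 (j : ℕ) : ℕ := bif Nat.blt j 255 then E_254 else E_255
def eT_252_256 (j : ℕ) : ℕ := bif Nat.blt j 254 then (eT_252_254 j) else (eT_254_256 j)
def eT_256_258 (j : ℕ) : ℕ := bif Nat.blt j 257 then E_256 else E_257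
def eT_259_261 (j : ℕ) : ℕ := bif Nat.blt j 260 then E_259 else E_260
def eT_258_261 (j : ℕ) : ℕ := bif Nat.blt j 259 then E_258 else (eT_259_261 j)
def eT_256_261 (j : ℕ) : ℕ := bif Nat.blt j 258 then (eT_256_258 j) else (eT_258_261 j)
def eT_252_261 (j : ℕ) : ℕ := bif Nat.blt j 256 then (eT_252_256 j) else (eT_256_261 j)
def eT_244_261 (j : ℕ) : ℕ := bif Nat.blt j 252 then (eT_244_252 j) else (eT_252_261 j)
def eT_261_263 (j : ℕ) : ℕ := bif Nat.blt j 262 then E_261 else E_262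
def eT_263_265 (j : ℕ) : ℕ := bif Nat.blt j 264 then E_263 else E_264
def eT_261_265 (j : ℕ) : ℕ := bif Nat.blt j 263 then (eT_261_263 j) else (eT_263_265 j)
def eT_265_267 (j : ℕ) : ℕ := bif Nat.blt j 266 then E_265 else E_266
def eT_268_270 (j : ℕ) : ℕ := bif Nat.blt j 269 then E_268 else E_269
def eT_267_270 (j : ℕ) : ℕ := bif Nat.blt j 268 then E_267 else (eT_268_270 j)
def eT_265_270 (j : ℕ) : ℕ := bif Nat.blt j 267 then (eT_265_267 j) else (eT_267_270 j)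
def eT_261_270 (j : ℕ) : ℕ := bif Nat.blt j 265 then (eT_261_265 j) else (eT_265_270 j)
def eT_270_272 (j : ℕ) : ℕ := bif Nat.blt j 271 then E_270 else E_271
def eT_272_274 (j : ℕ) : ℕ := bif Nat.blt j 273 then E_272 else E_273
def eT_270_274 (j : ℕ) : ℕ := bif Nat.blt j 272 then (eT_270_272 j) else (eT_272_274 j)
def eT_274_276 (j : ℕ) : ℕ := bif Nat.blt j 275 then E_274 else E_275
def eT_277_279 (j : ℕ) : ℕ := bif Nat.blt j 278 then E_277 else E_278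
def eT_276_279 (j : ℕ) : ℕ := bif Nat.blt j 277 then E_276 else (eT_277_279 j)
def eT_274_279 (j : ℕ) : ℕ := bif Nat.blt j 276 then (eT_274_276 j) else (eT_276_279 j)
def eT_270_279 (j : ℕ) : ℕ := bif Nat.blt j 274 then (eT_270_274 j) else (eT_274_279 j)
def eT_261_279 (j : ℕ) : ℕ := bif Nat.blt j 270 then (eT_261_270 j) else (eT_270_279 j)
def eT_244_279 (j : ℕ) : ℕ := bif Nat.blt j 261 then (eT_244_261 j) else (eT_261_279 j)
def eT_209_279 (j : ℕ) : ℕ := bif Nat.blt j 244 then (eT_209_244 j) else (eT_244_279 j)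
def eT_139_279 (j : ℕ) : ℕ := bif Nat.blt j 209 then (eT_139_209 j) else (eT_209_279 j)
def eT_0_279 (j : ℕ) : ℕ := bif Nat.blt j 139 then (eT_0_139 j) else (eT_139_279 j)
def eT_279_281 (j : ℕ) : ℕ := bif Nat.blt j 280 then E_279 else E_280
def eT_281_283 (j : ℕ) : ℕ := bif Nat.blt j 282 then E_281 else E_282
def eT_279_283 (j : ℕ) : ℕ := bif Nat.blt j 281 then (eT_279_281 j) else (eT_281_283 j)
def eT_283_285 (j : ℕ) : ℕ := bif Nat.blt j 284 then E_283 else E_284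
def eT_285_287 (j : ℕ) : ℕ := bif Nat.blt j 286 then E_285 else E_286
def eT_283_287 (j : ℕ) : ℕ := bif Nat.blt j 285 then (eT_283_285 j) else (eT_285_287 j)
def eT_279_287 (j : ℕ) : ℕ := bif Nat.blt j 283 then (eT_279_283 j) else (eT_283_287 j)
def eT_287_289 (j : ℕ) : ℕ := bif Nat.blt j 288 then E_287 else E_288
def eT_289_291 (j : ℕ) : ℕ := bif Nat.blt j 290 then E_289 else E_290
def eT_287_291 (j : ℕ) : ℕ := bif Nat.blt j 289 then (eT_287_289 j) else (eT_289_291 j)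
def eT_291_293 (j : ℕ) : ℕ := bif Nat.blt j 292 then E_291 else E_292
def eT_294_296 (j : ℕ) : ℕ := bif Nat.blt j 295 then E_294 else E_295
def eT_293_296 (j : ℕ) : ℕ := bif Nat.blt j 294 then E_293 else (eT_294_296 j)
def eT_291_296 (j : ℕ) : ℕ := bif Nat.blt j 293 then (eT_291_293 j) else (eT_293_296 j)
def eT_287_296 (j : ℕ) : ℕ := bif Nat.blt j 291 then (eT_287_291 j) else (eT_291_296 j)
def eT_279_296 (j : ℕ) : ℕ := bif Nat.blt j 287 then (eT_279_287 j) else (eT_287_296 j)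
def eT_296_298 (j : ℕ) : ℕ := bif Nat.blt j 297 then E_296 else E_297
def eT_298_300 (j : ℕ) : ℕ := bif Nat.blt j 299 then E_298 else E_299
def eT_296_300 (j : ℕ) : ℕ := bif Nat.blt j 298 then (eT_296_298 j) else (eT_298_300 j)
def eT_300_302 (j : ℕ) : ℕ := bif Nat.blt j 301 then E_300 else E_301
def eT_303_305 (j : ℕ) : ℕ := bif Nat.blt j 304 then E_303 else E_304
def eT_302_305 (j : ℕ) : ℕ := bif Nat.blt j 303 then E_302 else (eT_303_305 j)
def eT_300_305 (j : ℕ) : ℕ := bif Nat.blt j 302 then (eT_300_302 j) else (eT_302_305 j)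
def eT_296_305 (j : ℕ) : ℕ := bif Nat.blt j 300 then (eT_296_300 j) else (eT_300_305 j)
def eT_305_307 (j : ℕ) : ℕ := bif Nat.blt j 306 then E_305 else E_306
def eT_307_309 (j : ℕ) : ℕ := bif Nat.blt j 308 then E_307 else E_308
def eT_305_309 (j : ℕ) : ℕ := bif Nat.blt j 307 then (eT_305_307 j) else (eT_307_309 j)
def eT_309_311 (j : ℕ) : ℕ := bif Nat.blt j 310 then E_309 else E_310
def eT_312_314 (j : ℕ) : ℕ := bif Nat.blt j 313 then E_312 else E_313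
def eT_311_314 (j : ℕ) : ℕ := bif Nat.blt j 312 then E_311 else (eT_312_314 j)
def eT_309_314 (j : ℕ) : ℕ := bif Nat.blt j 311 then (eT_309_311 j) else (eT_311_314 j)
def eT_305_314 (j : ℕ) : ℕ := bif Nat.blt j 309 then (eT_305_309 j) else (eT_309_314 j)
def eT_296_314 (j : ℕ) : ℕ := bif Nat.blt j 305 then (eT_296_305 j) else (eT_305_314 j)
def eT_279_314 (j : ℕ) : ℕ := bif Nat.blt j 296 then (eT_279_296 j) else (eT_296_314 j)
def eT_314_316 (j : ℕ) : ℕ := bif Nat.blt j 315 then E_314 else E_315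
def eT_316_318 (j : ℕ) : ℕ := bif Nat.blt j 317 then E_316 else E_317
def eT_314_318 (j : ℕ) : ℕ := bif Nat.blt j 316 then (eT_314_316 j) else (eT_316_318 j)
def eT_318_320 (j : ℕ) : ℕ := bif Nat.blt j 319 then E_318 else E_319
def eT_320_322 (j : ℕ) : ℕ := bif Nat.blt j 321 then E_320 else E_321
def eT_318_322 (j : ℕ) : ℕ := bif Nat.blt j 320 then (eT_318_320 j) else (eT_320_322 j)
def eT_314_322 (j : ℕ) : ℕ := bif Nat.blt j 318 then (eT_314_318 j) else (eT_318_322 j)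
def eT_322_324 (j : ℕ) : ℕ := bif Nat.blt j 323 then E_322 else E_323
def eT_324_326 (j : ℕ) : ℕ := bif Nat.blt j 325 then E_324 else E_325
def eT_322_326 (j : ℕ) : ℕ := bif Nat.blt j 324 then (eT_322_324 j) else (eT_324_326 j)
def eT_326_328 (j : ℕ) : ℕ := bif Nat.blt j 327 then E_326 else E_327
def eT_329_331 (j : ℕ) : ℕ := bif Nat.blt j 330 then E_329 else E_330
def eT_328_331 (j : ℕ) : ℕ := bif Nat.blt j 329 then E_328 else (eT_329_331 j)
def eT_326_331 (j : ℕ) : ℕ := bif Nat.blt j 328 then (eT_326_328 j) else (eT_328_331 j)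
def eT_322_331 (j : ℕ) : ℕ := bif Nat.blt j 326 then (eT_322_326 j) else (eT_326_331 j)
def eT_314_331 (j : ℕ) : ℕ := bif Nat.blt j 322 then (eT_314_322 j) else (eT_322_331 j)
def eT_331_333 (j : ℕ) : ℕ := bif Nat.blt j 332 then E_331 else E_332
def eT_333_335 (j : ℕ) : ℕ := bif Nat.blt j 334 then E_333 else E_334
def eT_331_335 (j : ℕ) : ℕ := bif Nat.blt j 333 then (eT_331_333 j) else (eT_333_335 j)
def eT_335_337 (j : ℕ) : ℕ := bif Nat.blt j 336 then E_335 else E_336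
def eT_338_340 (j : ℕ) : ℕ := bif Nat.blt j 339 then E_338 else E_339
def eT_337_340 (j : ℕ) : ℕ := bif Nat.blt j 338 then E_337 else (eT_338_340 j)
def eT_335_340 (j : ℕ) : ℕ := bif Nat.blt j 337 then (eT_335_337 j) else (eT_337_340 j)
def eT_331_340 (j : ℕ) : ℕ := bif Nat.blt j 335 then (eT_331_335 j) else (eT_335_340 j)
def eT_340_342 (j : ℕ) : ℕ := bif Nat.blt j 341 then E_340 else E_341
def eT_342_344 (j : ℕ) : ℕ := bif Nat.blt j 343 then E_342 else E_343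
def eT_340_344 (j : ℕ) : ℕ := bif Nat.blt j 342 then (eT_340_342 j) else (eT_342_344 j)
def eT_344_346 (j : ℕ) : ℕ := bif Nat.blt j 345 then E_344 else E_345
def eT_347_349 (j : ℕ) : ℕ := bif Nat.blt j 348 then E_347 else E_348
def eT_346_349 (j : ℕ) : ℕ := bif Nat.blt j 347 then E_346 else (eT_347_349 j)
def eT_344_349 (j : ℕ) : ℕ := bif Nat.blt j 346 then (eT_344_346 j) else (eT_346_349 j)
def eT_340_349 (j : ℕ) : ℕ := bif Nat.blt j 344 then (eT_340_344 j) else (eT_344_349 j)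
def eT_331_349 (j : ℕ) : ℕ := bif Nat.blt j 340 then (eT_331_340 j) else (eT_340_349 j)
def eT_314_349 (j : ℕ) : ℕ := bif Nat.blt j 331 then (eT_314_331 j) else (eT_331_349 j)
def eT_279_349 (j : ℕ) : ℕ := bif Nat.blt j 314 then (eT_279_314 j) else (eT_314_349 j)
def eT_349_351 (j : ℕ) : ℕ := bif Nat.blt j 350 then E_349 else E_350
def eT_351_353 (j : ℕ) : ℕ := bif Nat.blt j 352 then E_351 else E_352
def eT_349_353 (j : ℕ) : ℕ := bif Nat.blt j 351 then (eT_349_351 j) else (eT_351_353 j)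
def eT_353_355 (j : ℕ) : ℕ := bif Nat.blt j 354 then E_353 else E_354
def eT_355_357 (j : ℕ) : ℕ := bif Nat.blt j 356 then E_355 else E_356
def eT_353_357 (j : ℕ) : ℕ := bif Nat.blt j 355 then (eT_353_355 j) else (eT_355_357 j)
def eT_349_357 (j : ℕ) : ℕ := bif Nat.blt j 353 then (eT_349_353 j) else (eT_353_357 j)
def eT_357_359 (j : ℕ) : ℕ := bif Nat.blt j 358 then E_357 else E_358
def eT_359_361 (j : ℕ) : ℕ := bif Nat.blt j 360 then E_359 else E_360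
def eT_357_361 (j : ℕ) : ℕ := bif Nat.blt j 359 then (eT_357_359 j) else (eT_359_361 j)
def eT_361_363 (j : ℕ) : ℕ := bif Nat.blt j 362 then E_361 else E_362
def eT_364_366 (j : ℕ) : ℕ := bif Nat.blt j 365 then E_364 else E_365
def eT_363_366 (j : ℕ) : ℕ := bif Nat.blt j 364 then E_363 else (eT_364_366 j)
def eT_361_366 (j : ℕ) : ℕ := bif Nat.blt j 363 then (eT_361_363 j) else (eT_363_366 j)
def eT_357_366 (j : ℕ) : ℕ := bif Nat.blt j 361 then (eT_357_361 j) else (eT_361_366 j)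
def eT_349_366 (j : ℕ) : ℕ := bif Nat.blt j 357 then (eT_349_357 j) else (eT_357_366 j)
def eT_366_368 (j : ℕ) : ℕ := bif Nat.blt j 367 then E_366 else E_367
def eT_368_370 (j : ℕ) : ℕ := bif Nat.blt j 369 then E_368 else E_369
def eT_366_370 (j : ℕ) : ℕ := bif Nat.blt j 368 then (eT_366_368 j) else (eT_368_370 j)
def eT_370_372 (j : ℕ) : ℕ := bif Nat.blt j 371 then E_370 else E_371
def eT_373_375 (j : ℕ) : ℕ := bif Nat.blt j 374 then E_373 else E_374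
def eT_372_375 (j : ℕ) : ℕ := bif Nat.blt j 373 then E_372 else (eT_373_375 j)
def eT_370_375 (j : ℕ) : ℕ := bif Nat.blt j 372 then (eT_370_372 j) else (eT_372_375 j)
def eT_366_375 (j : ℕ) : ℕ := bif Nat.blt j 370 then (eT_366_370 j) else (eT_370_375 j)
def eT_375_377 (j : ℕ) : ℕ := bif Nat.blt j 376 then E_375 else E_376
def eT_377_379 (j : ℕ) : ℕ := bif Nat.blt j 378 then E_377 else E_378
def eT_375_379 (j : ℕ) : ℕ := bif Nat.blt j 377 then (eT_375_377 j) else (eT_377_379 j)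
def eT_379_381 (j : ℕ) : ℕ := bif Nat.blt j 380 then E_379 else E_380
def eT_382_384 (j : ℕ) : ℕ := bif Nat.blt j 383 then E_382 else E_383
def eT_381_384 (j : ℕ) : ℕ := bif Nat.blt j 382 then E_381 else (eT_382_384 j)
def eT_379_384 (j : ℕ) : ℕ := bif Nat.blt j 381 then (eT_379_381 j) else (eT_381_384 j)
def eT_375_384 (j : ℕ) : ℕ := bif Nat.blt j 379 then (eT_375_379 j) else (eT_379_384 j)
def eT_366_384 (j : ℕ) : ℕ := bif Nat.blt j 375 then (eT_366_375 j) else (eT_375_384 j)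
def eT_349_384 (j : ℕ) : ℕ := bif Nat.blt j 366 then (eT_349_366 j) else (eT_366_384 j)
def eT_384_386 (j : ℕ) : ℕ := bif Nat.blt j 385 then E_384 else E_385
def eT_386_388 (j : ℕ) : ℕ := bif Nat.blt j 387 then E_386 else E_387
def eT_384_388 (j : ℕ) : ℕ := bif Nat.blt j 386 then (eT_384_386 j) else (eT_386_388 j)
def eT_388_390 (j : ℕ) : ℕ := bif Nat.blt j 389 then E_388 else E_389
def eT_390_392 (j : ℕ) : ℕ := bif Nat.blt j 391 then E_390 else E_391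
def eT_388_392 (j : ℕ) : ℕ := bif Nat.blt j 390 then (eT_388_390 j) else (eT_390_392 j)
def eT_384_392 (j : ℕ) : ℕ := bif Nat.blt j 388 then (eT_384_388 j) else (eT_388_392 j)
def eT_392_394 (j : ℕ) : ℕ := bif Nat.blt j 393 then E_392 else E_393
def eT_394_396 (j : ℕ) : ℕ := bif Nat.blt j 395 then E_394 else E_395
def eT_392_396 (j : ℕ) : ℕ := bif Nat.blt j 394 then (eT_392_394 j) else (eT_394_396 j)
def eT_396_398 (j : ℕ) : ℕ := bif Nat.blt j 397 then E_396 else E_397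
def eT_399_401 (j : ℕ) : ℕ := bif Nat.blt j 400 then E_399 else E_400
def eT_398_401 (j : ℕ) : ℕ := bif Nat.blt j 399 then E_398 else (eT_399_401 j)
def eT_396_401 (j : ℕ) : ℕ := bif Nat.blt j 398 then (eT_396_398 j) else (eT_398_401 j)
def eT_392_401 (j : ℕ) : ℕ := bif Nat.blt j 396 then (eT_392_396 j) else (eT_396_401 j)
def eT_384_401 (j : ℕ) : ℕ := bif Nat.blt j 392 then (eT_384_392 j) else (eT_392_401 j)
def eT_401_403 (j : ℕ) : ℕ := bif Nat.blt j 402 then E_401 else E_402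
def eT_403_405 (j : ℕ) : ℕ := bif Nat.blt j 404 then E_403 else E_404
def eT_401_405 (j : ℕ) : ℕ := bif Nat.blt j 403 then (eT_401_403 j) else (eT_403_405 j)
def eT_405_407 (j : ℕ) : ℕ := bif Nat.blt j 406 then E_405 else E_406
def eT_408_410 (j : ℕ) : ℕ := bif Nat.blt j 409 then E_408 else E_409
def eT_407_410 (j : ℕ) : ℕ := bif Nat.blt j 408 then E_407 else (eT_408_410 j)
def eT_405_410 (j : ℕ) : ℕ := bif Nat.blt j 407 then (eT_405_407 j) else (eT_407_410 j)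
def eT_401_410 (j : ℕ) : ℕ := bif Nat.blt j 405 then (eT_401_405 j) else (eT_405_410 j)
def eT_410_412 (j : ℕ) : ℕ := bif Nat.blt j 411 then E_410 else E_411
def eT_412_414 (j : ℕ) : ℕ := bif Nat.blt j 413 then E_412 else E_413
def eT_410_414 (j : ℕ) : ℕ := bif Nat.blt j 412 then (eT_410_412 j) else (eT_412_414 j)
def eT_414_416 (j : ℕ) : ℕ := bif Nat.blt j 415 then E_414 else E_415
def eT_417_419 (j : ℕ) : ℕ := bif Nat.blt j 418 then E_417 else E_418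
def eT_416_419 (j : ℕ) : ℕ := bif Nat.blt j 417 then E_416 else (eT_417_419 j)
def eT_414_419 (j : ℕ) : ℕ := bif Nat.blt j 416 then (eT_414_416 j) else (eT_416_419 j)
def eT_410_419 (j : ℕ) : ℕ := bif Nat.blt j 414 then (eT_410_414 j) else (eT_414_419 j)
def eT_401_419 (j : ℕ) : ℕ := bif Nat.blt j 410 then (eT_401_410 j) else (eT_410_419 j)
def eT_384_419 (j : ℕ) : ℕ := bif Nat.blt j 401 then (eT_384_401 j) else (eT_401_419 j)
def eT_349_419 (j : ℕ) : ℕ := bif Nat.blt j 384 then (eT_349_384 j) else (eT_384_419 j)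
def eT_279_419 (j : ℕ) : ℕ := bif Nat.blt j 349 then (eT_279_349 j) else (eT_349_419 j)
def eT_419_421 (j : ℕ) : ℕ := bif Nat.blt j 420 then E_419 else E_420
def eT_421_423 (j : ℕ) : ℕ := bif Nat.blt j 422 then E_421 else E_422
def eT_419_423 (j : ℕ) : ℕ := bif Nat.blt j 421 then (eT_419_421 j) else (eT_421_423 j)
def eT_423_425 (j : ℕ) : ℕ := bif Nat.blt j 424 then E_423 else E_424
def eT_425_427 (j : ℕ) : ℕ := bif Nat.blt j 426 then E_425 else E_426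
def eT_423_427 (j : ℕ) : ℕ := bif Nat.blt j 425 then (eT_423_425 j) else (eT_425_427 j)
def eT_419_427 (j : ℕ) : ℕ := bif Nat.blt j 423 then (eT_419_423 j) else (eT_423_427 j)
def eT_427_429 (j : ℕ) : ℕ := bif Nat.blt j 428 then E_427 else E_428
def eT_429_431 (j : ℕ) : ℕ := bif Nat.blt j 430 then E_429 else E_430
def eT_427_431 (j : ℕ) : ℕ := bif Nat.blt j 429 then (eT_427_429 j) else (eT_429_431 j)
def eT_431_433 (j : ℕ) : ℕ := bif Nat.blt j 432 then E_431 else E_432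
def eT_434_436 (j : ℕ) : ℕ := bif Nat.blt j 435 then E_434 else E_435
def eT_433_436 (j : ℕ) : ℕ := bif Nat.blt j 434 then E_433 else (eT_434_436 j)
def eT_431_436 (j : ℕ) : ℕ := bif Nat.blt j 433 then (eT_431_433 j) else (eT_433_436 j)
def eT_427_436 (j : ℕ) : ℕ := bif Nat.blt j 431 then (eT_427_431 j) else (eT_431_436 j)
def eT_419_436 (j : ℕ) : ℕ := bif Nat.blt j 427 then (eT_419_427 j) else (eT_427_436 j)
def eT_436_438 (j : ℕ) : ℕ := bif Nat.blt j 437 then E_436 else E_437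
def eT_438_440 (j : ℕ) : ℕ := bif Nat.blt j 439 then E_438 else E_439
def eT_436_440 (j : ℕ) : ℕ := bif Nat.blt j 438 then (eT_436_438 j) else (eT_438_440 j)
def eT_440_442 (j : ℕ) : ℕ := bif Nat.blt j 441 then E_440 else E_441
def eT_443_445 (j : ℕ) : ℕ := bif Nat.blt j 444 then E_443 else E_444
def eT_442_445 (j : ℕ) : ℕ := bif Nat.blt j 443 then E_442 else (eT_443_445 j)
def eT_440_445 (j : ℕ) : ℕ := bif Nat.blt j 442 then (eT_440_442 j) else (eT_442_445 j)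
def eT_436_445 (j : ℕ) : ℕ := bif Nat.blt j 440 then (eT_436_440 j) else (eT_440_445 j)
def eT_445_447 (j : ℕ) : ℕ := bif Nat.blt j 446 then E_445 else E_446
def eT_447_449 (j : ℕ) : ℕ := bif Nat.blt j 448 then E_447 else E_448
def eT_445_449 (j : ℕ) : ℕ := bif Nat.blt j 447 then (eT_445_447 j) else (eT_447_449 j)
def eT_449_451 (j : ℕ) : ℕ := bif Nat.blt j 450 then E_449 else E_450
def eT_452_454 (j : ℕ) : ℕ := bif Nat.blt j 453 then E_452 else E_453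
def eT_451_454 (j : ℕ) : ℕ := bif Nat.blt j 452 then E_451 else (eT_452_454 j)
def eT_449_454 (j : ℕ) : ℕ := bif Nat.blt j 451 then (eT_449_451 j) else (eT_451_454 j)
def eT_445_454 (j : ℕ) : ℕ := bif Nat.blt j 449 then (eT_445_449 j) else (eT_449_454 j)
def eT_436_454 (j : ℕ) : ℕ := bif Nat.blt j 445 then (eT_436_445 j) else (eT_445_454 j)
def eT_419_454 (j : ℕ) : ℕ := bif Nat.blt j 436 then (eT_419_436 j) else (eT_436_454 j)
def eT_454_456 (j : ℕ) : ℕ := bif Nat.blt j 455 then E_454 else E_455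
def eT_456_458 (j : ℕ) : ℕ := bif Nat.blt j 457 then E_456 else E_457
def eT_454_458 (j : ℕ) : ℕ := bif Nat.blt j 456 then (eT_454_456 j) else (eT_456_458 j)
def eT_458_460 (j : ℕ) : ℕ := bif Nat.blt j 459 then E_458 else E_459
def eT_460_462 (j : ℕ) : ℕ := bif Nat.blt j 461 then E_460 else E_461
def eT_458_462 (j : ℕ) : ℕ := bif Nat.blt j 460 then (eT_458_460 j) else (eT_460_462 j)
def eT_454_462 (j : ℕ) : ℕ := bif Nat.blt j 458 then (eT_454_458 j) else (eT_458_462 j)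
def eT_462_464 (j : ℕ) : ℕ := bif Nat.blt j 463 then E_462 else E_463
def eT_464_466 (j : ℕ) : ℕ := bif Nat.blt j 465 then E_464 else E_465
def eT_462_466 (j : ℕ) : ℕ := bif Nat.blt j 464 then (eT_462_464 j) else (eT_464_466 j)
def eT_466_468 (j : ℕ) : ℕ := bif Nat.blt j 467 then E_466 else E_467
def eT_469_471 (j : ℕ) : ℕ := bif Nat.blt j 470 then E_469 else E_470
def eT_468_471 (j : ℕ) : ℕ := bif Nat.blt j 469 then E_468 else (eT_469_471 j)
def eT_466_471 (j : ℕ) : ℕ := bif Nat.blt j 468 then (eT_466_468 j) else (eT_468_471 j)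
def eT_462_471 (j : ℕ) : ℕ := bif Nat.blt j 466 then (eT_462_466 j) else (eT_466_471 j)
def eT_454_471 (j : ℕ) : ℕ := bif Nat.blt j 462 then (eT_454_462 j) else (eT_462_471 j)
def eT_471_473 (j : ℕ) : ℕ := bif Nat.blt j 472 then E_471 else E_472
def eT_473_475 (j : ℕ) : ℕ := bif Nat.blt j 474 then E_473 else E_474
def eT_471_475 (j : ℕ) : ℕ := bif Nat.blt j 473 then (eT_471_473 j) else (eT_473_475 j)
def eT_475_477 (j : ℕ) : ℕ := bif Nat.blt j 476 then E_475 else E_476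
def eT_478_480 (j : ℕ) : ℕ := bif Nat.blt j 479 then E_478 else E_479
def eT_477_480 (j : ℕ) : ℕ := bif Nat.blt j 478 then E_477 else (eT_478_480 j)
def eT_475_480 (j : ℕ) : ℕ := bif Nat.blt j 477 then (eT_475_477 j) else (eT_477_480 j)
def eT_471_480 (j : ℕ) : ℕ := bif Nat.blt j 475 then (eT_471_475 j) else (eT_475_480 j)
def eT_480_482 (j : ℕ) : ℕ := bif Nat.blt j 481 then E_480 else E_481
def eT_482_484 (j : ℕ) : ℕ := bif Nat.blt j 483 then E_482 else E_483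
def eT_480_484 (j : ℕ) : ℕ := bif Nat.blt j 482 then (eT_480_482 j) else (eT_482_484 j)
def eT_484_486 (j : ℕ) : ℕ := bif Nat.blt j 485 then E_484 else E_485
def eT_487_489 (j : ℕ) : ℕ := bif Nat.blt j 488 then E_487 else E_488
def eT_486_489 (j : ℕ) : ℕ := bif Nat.blt j 487 then E_486 else (eT_487_489 j)
def eT_484_489 (j : ℕ) : ℕ := bif Nat.blt j 486 then (eT_484_486 j) else (eT_486_489 j)
def eT_480_489 (j : ℕ) : ℕ := bif Nat.blt j 484 then (eT_480_484 j) else (eT_484_489 j)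
def eT_471_489 (j : ℕ) : ℕ := bif Nat.blt j 480 then (eT_471_480 j) else (eT_480_489 j)
def eT_454_489 (j : ℕ) : ℕ := bif Nat.blt j 471 then (eT_454_471 j) else (eT_471_489 j)
def eT_419_489 (j : ℕ) : ℕ := bif Nat.blt j 454 then (eT_419_454 j) else (eT_454_489 j)
def eT_489_491 (j : ℕ) : ℕ := bif Nat.blt j 490 then E_489 else E_490
def eT_491_493 (j : ℕ) : ℕ := bif Nat.blt j 492 then E_491 else E_492
def eT_489_493 (j : ℕ) : ℕ := bif Nat.blt j 491 then (eT_489_491 j) else (eT_491_493 j)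
def eT_493_495 (j : ℕ) : ℕ := bif Nat.blt j 494 then E_493 else E_494
def eT_495_497 (j : ℕ) : ℕ := bif Nat.blt j 496 then E_495 else E_496
def eT_493_497 (j : ℕ) : ℕ := bif Nat.blt j 495 then (eT_493_495 j) else (eT_495_497 j)
def eT_489_497 (j : ℕ) : ℕ := bif Nat.blt j 493 then (eT_489_493 j) else (eT_493_497 j)
def eT_497_499 (j : ℕ) : ℕ := bif Nat.blt j 498 then E_497 else E_498
def eT_499_501 (j : ℕ) : ℕ := bif Nat.blt j 500 then E_499 else E_500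
def eT_497_501 (j : ℕ) : ℕ := bif Nat.blt j 499 then (eT_497_499 j) else (eT_499_501 j)
def eT_501_503 (j : ℕ) : ℕ := bif Nat.blt j 502 then E_501 else E_502
def eT_504_506 (j : ℕ) : ℕ := bif Nat.blt j 505 then E_504 else E_505
def eT_503_506 (j : ℕ) : ℕ := bif Nat.blt j 504 then E_503 else (eT_504_506 j)
def eT_501_506 (j : ℕ) : ℕ := bif Nat.blt j 503 then (eT_501_503 j) else (eT_503_506 j)
def eT_497_506 (j : ℕ) : ℕ := bif Nat.blt j 501 then (eT_497_501 j) else (eT_501_506 j)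
def eT_489_506 (j : ℕ) : ℕ := bif Nat.blt j 497 then (eT_489_497 j) else (eT_497_506 j)
def eT_506_508 (j : ℕ) : ℕ := bif Nat.blt j 507 then E_506 else E_507
def eT_508_510 (j : ℕ) : ℕ := bif Nat.blt j 509 then E_508 else E_509
def eT_506_510 (j : ℕ) : ℕ := bif Nat.blt j 508 then (eT_506_508 j) else (eT_508_510 j)
def eT_510_512 (j : ℕ) : ℕ := bif Nat.blt j 511 then E_510 else E_511
def eT_513_515 (j : ℕ) : ℕ := bif Nat.blt j 514 then E_513 else E_514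
def eT_512_515 (j : ℕ) : ℕ := bif Nat.blt j 513 then E_512 else (eT_513_515 j)
def eT_510_515 (j : ℕ) : ℕ := bif Nat.blt j 512 then (eT_510_512 j) else (eT_512_515 j)
def eT_506_515 (j : ℕ) : ℕ := bif Nat.blt j 510 then (eT_506_510 j) else (eT_510_515 j)
def eT_515_517 (j : ℕ) : ℕ := bif Nat.blt j 516 then E_515 else E_516
def eT_517_519 (j : ℕ) : ℕ := bif Nat.blt j 518 then E_517 else E_518
def eT_515_519 (j : ℕ) : ℕ := bif Nat.blt j 517 then (eT_515_517 j) else (eT_517_519 j)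
def eT_519_521 (j : ℕ) : ℕ := bif Nat.blt j 520 then E_519 else E_520
def eT_522_524 (j : ℕ) : ℕ := bif Nat.blt j 523 then E_522 else E_523
def eT_521_524 (j : ℕ) : ℕ := bif Nat.blt j 522 then E_521 else (eT_522_524 j)
def eT_519_524 (j : ℕ) : ℕ := bif Nat.blt j 521 then (eT_519_521 j) else (eT_521_524 j)
def eT_515_524 (j : ℕ) : ℕ := bif Nat.blt j 519 then (eT_515_519 j) else (eT_519_524 j)
def eT_506_524 (j : ℕ) : ℕ := bif Nat.blt j 515 then (eT_506_515 j) else (eT_515_524 j)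
def eT_489_524 (j : ℕ) : ℕ := bif Nat.blt j 506 then (eT_489_506 j) else (eT_506_524 j)
def eT_524_526 (j : ℕ) : ℕ := bif Nat.blt j 525 then E_524 else E_525
def eT_526_528 (j : ℕ) : ℕ := bif Nat.blt j 527 then E_526 else E_527
def eT_524_528 (j : ℕ) : ℕ := bif Nat.blt j 526 then (eT_524_526 j) else (eT_526_528 j)
def eT_528_530 (j : ℕ) : ℕ := bif Nat.blt j 529 then E_528 else E_529
def eT_530_532 (j : ℕ) : ℕ := bif Nat.blt j 531 then E_530 else E_531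
def eT_528_532 (j : ℕ) : ℕ := bif Nat.blt j 530 then (eT_528_530 j) else (eT_530_532 j)
def eT_524_532 (j : ℕ) : ℕ := bif Nat.blt j 528 then (eT_524_528 j) else (eT_528_532 j)
def eT_532_534 (j : ℕ) : ℕ := bif Nat.blt j 533 then E_532 else E_533
def eT_534_536 (j : ℕ) : ℕ := bif Nat.blt j 535 then E_534 else E_535
def eT_532_536 (j : ℕ) : ℕ := bif Nat.blt j 534 then (eT_532_534 j) else (eT_534_536 j)
def eT_536_538 (j : ℕ) : ℕ := bif Nat.blt j 537 then E_536 else E_537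
def eT_539_541 (j : ℕ) : ℕ := bif Nat.blt j 540 then E_539 else E_540
def eT_538_541 (j : ℕ) : ℕ := bif Nat.blt j 539 then E_538 else (eT_539_541 j)
def eT_536_541 (j : ℕ) : ℕ := bif Nat.blt j 538 then (eT_536_538 j) else (eT_538_541 j)
def eT_532_541 (j : ℕ) : ℕ := bif Nat.blt j 536 then (eT_532_536 j) else (eT_536_541 j)
def eT_524_541 (j : ℕ) : ℕ := bif Nat.blt j 532 then (eT_524_532 j) else (eT_532_541 j)
def eT_541_543 (j : ℕ) : ℕ := bif Nat.blt j 542 then E_541 else E_542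
def eT_543_545 (j : ℕ) : ℕ := bif Nat.blt j 544 then E_543 else E_544
def eT_541_545 (j : ℕ) : ℕ := bif Nat.blt j 543 then (eT_541_543 j) else (eT_543_545 j)
def eT_545_547 (j : ℕ) : ℕ := bif Nat.blt j 546 then E_545 else E_546
def eT_548_550 (j : ℕ) : ℕ := bif Nat.blt j 549 then E_548 else E_549
def eT_547_550 (j : ℕ) : ℕ := bif Nat.blt j 548 then E_547 else (eT_548_550 j)
def eT_545_550 (j : ℕ) : ℕ := bif Nat.blt j 547 then (eT_545_547 j) else (eT_547_550 j)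
def eT_541_550 (j : ℕ) : ℕ := bif Nat.blt j 545 then (eT_541_545 j) else (eT_545_550 j)
def eT_550_552 (j : ℕ) : ℕ := bif Nat.blt j 551 then E_550 else E_551
def eT_552_554 (j : ℕ) : ℕ := bif Nat.blt j 553 then E_552 else E_553
def eT_550_554 (j : ℕ) : ℕ := bif Nat.blt j 552 then (eT_550_552 j) else (eT_552_554 j)
def eT_554_556 (j : ℕ) : ℕ := bif Nat.blt j 555 then E_554 else E_555
def eT_557_559 (j : ℕ) : ℕ := bif Nat.blt j 558 then E_557 else E_558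
def eT_556_559 (j : ℕ) : ℕ := bif Nat.blt j 557 then E_556 else (eT_557_559 j)
def eT_554_559 (j : ℕ) : ℕ := bif Nat.blt j 556 then (eT_554_556 j) else (eT_556_559 j)
def eT_550_559 (j : ℕ) : ℕ := bif Nat.blt j 554 then (eT_550_554 j) else (eT_554_559 j)
def eT_541_559 (j : ℕ) : ℕ := bif Nat.blt j 550 then (eT_541_550 j) else (eT_550_559 j)
def eT_524_559 (j : ℕ) : ℕ := bif Nat.blt j 541 then (eT_524_541 j) else (eT_541_559 j)
def eT_489_559 (j : ℕ) : ℕ := bif Nat.blt j 524 then (eT_489_524 j) else (eT_524_559 j)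
def eT_419_559 (j : ℕ) : ℕ := bif Nat.blt j 489 then (eT_419_489 j) else (eT_489_559 j)
def eT_279_559 (j : ℕ) : ℕ := bif Nat.blt j 419 then (eT_279_419 j) else (eT_419_559 j)
def eT_0_559 (j : ℕ) : ℕ := bif Nat.blt j 279 then (eT_0_279 j) else (eT_279_559 j)
def eT_559_561 (j : ℕ) : ℕ := bif Nat.blt j 560 then E_559 else E_560
def eT_561_563 (j : ℕ) : ℕ := bif Nat.blt j 562 then E_561 else E_562
def eT_559_563 (j : ℕ) : ℕ := bif Nat.blt j 561 then (eT_559_561 j) else (eT_561_563 j)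
def eT_563_565 (j : ℕ) : ℕ := bif Nat.blt j 564 then E_563 else E_564
def eT_565_567 (j : ℕ) : ℕ := bif Nat.blt j 566 then E_565 else E_566
def eT_563_567 (j : ℕ) : ℕ := bif Nat.blt j 565 then (eT_563_565 j) else (eT_565_567 j)
def eT_559_567 (j : ℕ) : ℕ := bif Nat.blt j 563 then (eT_559_563 j) else (eT_563_567 j)
def eT_567_569 (j : ℕ) : ℕ := bif Nat.blt j 568 then E_567 else E_568
def eT_569_571 (j : ℕ) : ℕ := bif Nat.blt j 570 then E_569 else E_570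
def eT_567_571 (j : ℕ) : ℕ := bif Nat.blt j 569 then (eT_567_569 j) else (eT_569_571 j)
def eT_571_573 (j : ℕ) : ℕ := bif Nat.blt j 572 then E_571 else E_572
def eT_574_576 (j : ℕ) : ℕ := bif Nat.blt j 575 then E_574 else E_575
def eT_573_576 (j : ℕ) : ℕ := bif Nat.blt j 574 then E_573 else (eT_574_576 j)
def eT_571_576 (j : ℕ) : ℕ := bif Nat.blt j 573 then (eT_571_573 j) else (eT_573_576 j)
def eT_567_576 (j : ℕ) : ℕ := bif Nat.blt j 571 then (eT_567_571 j) else (eT_571_576 j)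
def eT_559_576 (j : ℕ) : ℕ := bif Nat.blt j 567 then (eT_559_567 j) else (eT_567_576 j)
def eT_576_578 (j : ℕ) : ℕ := bif Nat.blt j 577 then E_576 else E_577
def eT_578_580 (j : ℕ) : ℕ := bif Nat.blt j 579 then E_578 else E_579
def eT_576_580 (j : ℕ) : ℕ := bif Nat.blt j 578 then (eT_576_578 j) else (eT_578_580 j)
def eT_580_582 (j : ℕ) : ℕ := bif Nat.blt j 581 then E_580 else E_581
def eT_583_585 (j : ℕ) : ℕ := bif Nat.blt j 584 then E_583 else E_584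
def eT_582_585 (j : ℕ) : ℕ := bif Nat.blt j 583 then E_582 else (eT_583_585 j)
def eT_580_585 (j : ℕ) : ℕ := bif Nat.blt j 582 then (eT_580_582 j) else (eT_582_585 j)
def eT_576_585 (j : ℕ) : ℕ := bif Nat.blt j 580 then (eT_576_580 j) else (eT_580_585 j)
def eT_585_587 (j : ℕ) : ℕ := bif Nat.blt j 586 then E_585 else E_586
def eT_587_589 (j : ℕ) : ℕ := bif Nat.blt j 588 then E_587 else E_588
def eT_585_589 (j : ℕ) : ℕ := bif Nat.blt j 587 then (eT_585_587 j) else (eT_587_589 j)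
def eT_589_591 (j : ℕ) : ℕ := bif Nat.blt j 590 then E_589 else E_590
def eT_592_594 (j : ℕ) : ℕ := bif Nat.blt j 593 then E_592 else E_593
def eT_591_594 (j : ℕ) : ℕ := bif Nat.blt j 592 then E_591 else (eT_592_594 j)
def eT_589_594 (j : ℕ) : ℕ := bif Nat.blt j 591 then (eT_589_591 j) else (eT_591_594 j)
def eT_585_594 (j : ℕ) : ℕ := bif Nat.blt j 589 then (eT_585_589 j) else (eT_589_594 j)
def eT_576_594 (j : ℕ) : ℕ := bif Nat.blt j 585 then (eT_576_585 j) else (eT_585_594 j)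
def eT_559_594 (j : ℕ) : ℕ := bif Nat.blt j 576 then (eT_559_576 j) else (eT_576_594 j)
def eT_594_596 (j : ℕ) : ℕ := bif Nat.blt j 595 then E_594 else E_595
def eT_596_598 (j : ℕ) : ℕ := bif Nat.blt j 597 then E_596 else E_597
def eT_594_598 (j : ℕ) : ℕ := bif Nat.blt j 596 then (eT_594_596 j) else (eT_596_598 j)
def eT_598_600 (j : ℕ) : ℕ := bif Nat.blt j 599 then E_598 else E_599
def eT_600_602 (j : ℕ) : ℕ := bif Nat.blt j 601 then E_600 else E_601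
def eT_598_602 (j : ℕ) : ℕ := bif Nat.blt j 600 then (eT_598_600 j) else (eT_600_602 j)
def eT_594_602 (j : ℕ) : ℕ := bif Nat.blt j 598 then (eT_594_598 j) else (eT_598_602 j)
def eT_602_604 (j : ℕ) : ℕ := bif Nat.blt j 603 then E_602 else E_603
def eT_604_606 (j : ℕ) : ℕ := bif Nat.blt j 605 then E_604 else E_605
def eT_602_606 (j : ℕ) : ℕ := bif Nat.blt j 604 then (eT_602_604 j) else (eT_604_606 j)
def eT_606_608 (j : ℕ) : ℕ := bif Nat.blt j 607 then E_606 else E_607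
def eT_609_611 (j : ℕ) : ℕ := bif Nat.blt j 610 then E_609 else E_610
def eT_608_611 (j : ℕ) : ℕ := bif Nat.blt j 609 then E_608 else (eT_609_611 j)
def eT_606_611 (j : ℕ) : ℕ := bif Nat.blt j 608 then (eT_606_608 j) else (eT_608_611 j)
def eT_602_611 (j : ℕ) : ℕ := bif Nat.blt j 606 then (eT_602_606 j) else (eT_606_611 j)
def eT_594_611 (j : ℕ) : ℕ := bif Nat.blt j 602 then (eT_594_602 j) else (eT_602_611 j)
def eT_611_613 (j : ℕ) : ℕ := bif Nat.blt j 612 then E_611 else E_612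
def eT_613_615 (j : ℕ) : ℕ := bif Nat.blt j 614 then E_613 else E_614
def eT_611_615 (j : ℕ) : ℕ := bif Nat.blt j 613 then (eT_611_613 j) else (eT_613_615 j)
def eT_615_617 (j : ℕ) : ℕ := bif Nat.blt j 616 then E_615 else E_616
def eT_618_620 (j : ℕ) : ℕ := bif Nat.blt j 619 then E_618 else E_619
def eT_617_620 (j : ℕ) : ℕ := bif Nat.blt j 618 then E_617 else (eT_618_620 j)
def eT_615_620 (j : ℕ) : ℕ := bif Nat.blt j 617 then (eT_615_617 j) else (eT_617_620 j)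
def eT_611_620 (j : ℕ) : ℕ := bif Nat.blt j 615 then (eT_611_615 j) else (eT_615_620 j)
def eT_620_622 (j : ℕ) : ℕ := bif Nat.blt j 621 then E_620 else E_621
def eT_622_624 (j : ℕ) : ℕ := bif Nat.blt j 623 then E_622 else E_623
def eT_620_624 (j : ℕ) : ℕ := bif Nat.blt j 622 then (eT_620_622 j) else (eT_622_624 j)
def eT_624_626 (j : ℕ) : ℕ := bif Nat.blt j 625 then E_624 else E_625
def eT_627_629 (j : ℕ) : ℕ := bif Nat.blt j 628 then E_627 else E_628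
def eT_626_629 (j : ℕ) : ℕ := bif Nat.blt j 627 then E_626 else (eT_627_629 j)
def eT_624_629 (j : ℕ) : ℕ := bif Nat.blt j 626 then (eT_624_626 j) else (eT_626_629 j)
def eT_620_629 (j : ℕ) : ℕ := bif Nat.blt j 624 then (eT_620_624 j) else (eT_624_629 j)
def eT_611_629 (j : ℕ) : ℕ := bif Nat.blt j 620 then (eT_611_620 j) else (eT_620_629 j)
def eT_594_629 (j : ℕ) : ℕ := bif Nat.blt j 611 then (eT_594_611 j) else (eT_611_629 j)
def eT_559_629 (j : ℕ) : ℕ := bif Nat.blt j 594 then (eT_559_594 j) else (eT_594_629 j)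
def eT_629_631 (j : ℕ) : ℕ := bif Nat.blt j 630 then E_629 else E_630
def eT_631_633 (j : ℕ) : ℕ := bif Nat.blt j 632 then E_631 else E_632
def eT_629_633 (j : ℕ) : ℕ := bif Nat.blt j 631 then (eT_629_631 j) else (eT_631_633 j)
def eT_633_635 (j : ℕ) : ℕ := bif Nat.blt j 634 then E_633 else E_634
def eT_635_637 (j : ℕ) : ℕ := bif Nat.blt j 636 then E_635 else E_636
def eT_633_637 (j : ℕ) : ℕ := bif Nat.blt j 635 then (eT_633_635 j) else (eT_635_637 j)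
def eT_629_637 (j : ℕ) : ℕ := bif Nat.blt j 633 then (eT_629_633 j) else (eT_633_637 j)
def eT_637_639 (j : ℕ) : ℕ := bif Nat.blt j 638 then E_637 else E_638
def eT_639_641 (j : ℕ) : ℕ := bif Nat.blt j 640 then E_639 else E_640
def eT_637_641 (j : ℕ) : ℕ := bif Nat.blt j 639 then (eT_637_639 j) else (eT_639_641 j)
def eT_641_643 (j : ℕ) : ℕ := bif Nat.blt j 642 then E_641 else E_642
def eT_644_646 (j : ℕ) : ℕ := bif Nat.blt j 645 then E_644 else E_645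
def eT_643_646 (j : ℕ) : ℕ := bif Nat.blt j 644 then E_643 else (eT_644_646 j)
def eT_641_646 (j : ℕ) : ℕ := bif Nat.blt j 643 then (eT_641_643 j) else (eT_643_646 j)
def eT_637_646 (j : ℕ) : ℕ := bif Nat.blt j 641 then (eT_637_641 j) else (eT_641_646 j)
def eT_629_646 (j : ℕ) : ℕ := bif Nat.blt j 637 then (eT_629_637 j) else (eT_637_646 j)
def eT_646_648 (j : ℕ) : ℕ := bif Nat.blt j 647 then E_646 else E_647
def eT_648_650 (j : ℕ) : ℕ := bif Nat.blt j 649 then E_648 else E_649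
def eT_646_650 (j : ℕ) : ℕ := bif Nat.blt j 648 then (eT_646_648 j) else (eT_648_650 j)
def eT_650_652 (j : ℕ) : ℕ := bif Nat.blt j 651 then E_650 else E_651
def eT_653_655 (j : ℕ) : ℕ := bif Nat.blt j 654 then E_653 else E_654
def eT_652_655 (j : ℕ) : ℕ := bif Nat.blt j 653 then E_652 else (eT_653_655 j)
def eT_650_655 (j : ℕ) : ℕ := bif Nat.blt j 652 then (eT_650_652 j) else (eT_652_655 j)
def eT_646_655 (j : ℕ) : ℕ := bif Nat.blt j 650 then (eT_646_650 j) else (eT_650_655 j)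
def eT_655_657 (j : ℕ) : ℕ := bif Nat.blt j 656 then E_655 else E_656
def eT_657_659 (j : ℕ) : ℕ := bif Nat.blt j 658 then E_657 else E_658
def eT_655_659 (j : ℕ) : ℕ := bif Nat.blt j 657 then (eT_655_657 j) else (eT_657_659 j)
def eT_659_661 (j : ℕ) : ℕ := bif Nat.blt j 660 then E_659 else E_660
def eT_662_664 (j : ℕ) : ℕ := bif Nat.blt j 663 then E_662 else E_663
def eT_661_664 (j : ℕ) : ℕ := bif Nat.blt j 662 then E_661 else (eT_662_664 j)
def eT_659_664 (j : ℕ) : ℕ := bif Nat.blt j 661 then (eT_659_661 j) else (eT_661_664 j)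
def eT_655_664 (j : ℕ) : ℕ := bif Nat.blt j 659 then (eT_655_659 j) else (eT_659_664 j)
def eT_646_664 (j : ℕ) : ℕ := bif Nat.blt j 655 then (eT_646_655 j) else (eT_655_664 j)
def eT_629_664 (j : ℕ) : ℕ := bif Nat.blt j 646 then (eT_629_646 j) else (eT_646_664 j)
def eT_664_666 (j : ℕ) : ℕ := bif Nat.blt j 665 then E_664 else E_665
def eT_666_668 (j : ℕ) : ℕ := bif Nat.blt j 667 then E_666 else E_667
def eT_664_668 (j : ℕ) : ℕ := bif Nat.blt j 666 then (eT_664_666 j) else (eT_666_668 j)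
def eT_668_670 (j : ℕ) : ℕ := bif Nat.blt j 669 then E_668 else E_669
def eT_670_672 (j : ℕ) : ℕ := bif Nat.blt j 671 then E_670 else E_671
def eT_668_672 (j : ℕ) : ℕ := bif Nat.blt j 670 then (eT_668_670 j) else (eT_670_672 j)
def eT_664_672 (j : ℕ) : ℕ := bif Nat.blt j 668 then (eT_664_668 j) else (eT_668_672 j)
def eT_672_674 (j : ℕ) : ℕ := bif Nat.blt j 673 then E_672 else E_673
def eT_674_676 (j : ℕ) : ℕ := bif Nat.blt j 675 then E_674 else E_675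
def eT_672_676 (j : ℕ) : ℕ := bif Nat.blt j 674 then (eT_672_674 j) else (eT_674_676 j)
def eT_676_678 (j : ℕ) : ℕ := bif Nat.blt j 677 then E_676 else E_677
def eT_679_681 (j : ℕ) : ℕ := bif Nat.blt j 680 then E_679 else E_680
def eT_678_681 (j : ℕ) : ℕ := bif Nat.blt j 679 then E_678 else (eT_679_681 j)
def eT_676_681 (j : ℕ) : ℕ := bif Nat.blt j 678 then (eT_676_678 j) else (eT_678_681 j)
def eT_672_681 (j : ℕ) : ℕ := bif Nat.blt j 676 then (eT_672_676 j) else (eT_676_681 j)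
def eT_664_681 (j : ℕ) : ℕ := bif Nat.blt j 672 then (eT_664_672 j) else (eT_672_681 j)
def eT_681_683 (j : ℕ) : ℕ := bif Nat.blt j 682 then E_681 else E_682
def eT_683_685 (j : ℕ) : ℕ := bif Nat.blt j 684 then E_683 else E_684
def eT_681_685 (j : ℕ) : ℕ := bif Nat.blt j 683 then (eT_681_683 j) else (eT_683_685 j)
def eT_685_687 (j : ℕ) : ℕ := bif Nat.blt j 686 then E_685 else E_686
def eT_688_690 (j : ℕ) : ℕ := bif Nat.blt j 689 then E_688 else E_689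
def eT_687_690 (j : ℕ) : ℕ := bif Nat.blt j 688 then E_687 else (eT_688_690 j)
def eT_685_690 (j : ℕ) : ℕ := bif Nat.blt j 687 then (eT_685_687 j) else (eT_687_690 j)
def eT_681_690 (j : ℕ) : ℕ := bif Nat.blt j 685 then (eT_681_685 j) else (eT_685_690 j)
def eT_690_692 (j : ℕ) : ℕ := bif Nat.blt j 691 then E_690 else E_691
def eT_692_694 (j : ℕ) : ℕ := bif Nat.blt j 693 then E_692 else E_693
def eT_690_694 (j : ℕ) : ℕ := bif Nat.blt j 692 then (eT_690_692 j) else (eT_692_694 j)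
def eT_694_696 (j : ℕ) : ℕ := bif Nat.blt j 695 then E_694 else E_695
def eT_697_699 (j : ℕ) : ℕ := bif Nat.blt j 698 then E_697 else E_698
def eT_696_699 (j : ℕ) : ℕ := bif Nat.blt j 697 then E_696 else (eT_697_699 j)
def eT_694_699 (j : ℕ) : ℕ := bif Nat.blt j 696 then (eT_694_696 j) else (eT_696_699 j)
def eT_690_699 (j : ℕ) : ℕ := bif Nat.blt j 694 then (eT_690_694 j) else (eT_694_699 j)
def eT_681_699 (j : ℕ) : ℕ := bif Nat.blt j 690 then (eT_681_690 j) else (eT_690_699 j)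
def eT_664_699 (j : ℕ) : ℕ := bif Nat.blt j 681 then (eT_664_681 j) else (eT_681_699 j)
def eT_629_699 (j : ℕ) : ℕ := bif Nat.blt j 664 then (eT_629_664 j) else (eT_664_699 j)
def eT_559_699 (j : ℕ) : ℕ := bif Nat.blt j 629 then (eT_559_629 j) else (eT_629_699 j)
def eT_699_701 (j : ℕ) : ℕ := bif Nat.blt j 700 then E_699 else E_700
def eT_701_703 (j : ℕ) : ℕ := bif Nat.blt j 702 then E_701 else E_702
def eT_699_703 (j : ℕ) : ℕ := bif Nat.blt j 701 then (eT_699_701 j) else (eT_701_703 j)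
def eT_703_705 (j : ℕ) : ℕ := bif Nat.blt j 704 then E_703 else E_704
def eT_705_707 (j : ℕ) : ℕ := bif Nat.blt j 706 then E_705 else E_706
def eT_703_707 (j : ℕ) : ℕ := bif Nat.blt j 705 then (eT_703_705 j) else (eT_705_707 j)
def eT_699_707 (j : ℕ) : ℕ := bif Nat.blt j 703 then (eT_699_703 j) else (eT_703_707 j)
def eT_707_709 (j : ℕ) : ℕ := bif Nat.blt j 708 then E_707 else E_708
def eT_709_711 (j : ℕ) : ℕ := bif Nat.blt j 710 then E_709 else E_710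
def eT_707_711 (j : ℕ) : ℕ := bif Nat.blt j 709 then (eT_707_709 j) else (eT_709_711 j)
def eT_711_713 (j : ℕ) : ℕ := bif Nat.blt j 712 then E_711 else E_712
def eT_714_716 (j : ℕ) : ℕ := bif Nat.blt j 715 then E_714 else E_715
def eT_713_716 (j : ℕ) : ℕ := bif Nat.blt j 714 then E_713 else (eT_714_716 j)
def eT_711_716 (j : ℕ) : ℕ := bif Nat.blt j 713 then (eT_711_713 j) else (eT_713_716 j)
def eT_707_716 (j : ℕ) : ℕ := bif Nat.blt j 711 then (eT_707_711 j) else (eT_711_716 j)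
def eT_699_716 (j : ℕ) : ℕ := bif Nat.blt j 707 then (eT_699_707 j) else (eT_707_716 j)
def eT_716_718 (j : ℕ) : ℕ := bif Nat.blt j 717 then E_716 else E_717
def eT_718_720 (j : ℕ) : ℕ := bif Nat.blt j 719 then E_718 else E_719
def eT_716_720 (j : ℕ) : ℕ := bif Nat.blt j 718 then (eT_716_718 j) else (eT_718_720 j)
def eT_720_722 (j : ℕ) : ℕ := bif Nat.blt j 721 then E_720 else E_721
def eT_723_725 (j : ℕ) : ℕ := bif Nat.blt j 724 then E_723 else E_724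
def eT_722_725 (j : ℕ) : ℕ := bif Nat.blt j 723 then E_722 else (eT_723_725 j)
def eT_720_725 (j : ℕ) : ℕ := bif Nat.blt j 722 then (eT_720_722 j) else (eT_722_725 j)
def eT_716_725 (j : ℕ) : ℕ := bif Nat.blt j 720 then (eT_716_720 j) else (eT_720_725 j)
def eT_725_727 (j : ℕ) : ℕ := bif Nat.blt j 726 then E_725 else E_726
def eT_727_729 (j : ℕ) : ℕ := bif Nat.blt j 728 then E_727 else E_728
def eT_725_729 (j : ℕ) : ℕ := bif Nat.blt j 727 then (eT_725_727 j) else (eT_727_729 j)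
def eT_729_731 (j : ℕ) : ℕ := bif Nat.blt j 730 then E_729 else E_730
def eT_732_734 (j : ℕ) : ℕ := bif Nat.blt j 733 then E_732 else E_733
def eT_731_734 (j : ℕ) : ℕ := bif Nat.blt j 732 then E_731 else (eT_732_734 j)
def eT_729_734 (j : ℕ) : ℕ := bif Nat.blt j 731 then (eT_729_731 j) else (eT_731_734 j)
def eT_725_734 (j : ℕ) : ℕ := bif Nat.blt j 729 then (eT_725_729 j) else (eT_729_734 j)
def eT_716_734 (j : ℕ) : ℕ := bif Nat.blt j 725 then (eT_716_725 j) else (eT_725_734 j)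
def eT_699_734 (j : ℕ) : ℕ := bif Nat.blt j 716 then (eT_699_716 j) else (eT_716_734 j)
def eT_734_736 (j : ℕ) : ℕ := bif Nat.blt j 735 then E_734 else E_735
def eT_736_738 (j : ℕ) : ℕ := bif Nat.blt j 737 then E_736 else E_737
def eT_734_738 (j : ℕ) : ℕ := bif Nat.blt j 736 then (eT_734_736 j) else (eT_736_738 j)
def eT_738_740 (j : ℕ) : ℕ := bif Nat.blt j 739 then E_738 else E_739
def eT_740_742 (j : ℕ) : ℕ := bif Nat.blt j 741 then E_740 else E_741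
def eT_738_742 (j : ℕ) : ℕ := bif Nat.blt j 740 then (eT_738_740 j) else (eT_740_742 j)
def eT_734_742 (j : ℕ) : ℕ := bif Nat.blt j 738 then (eT_734_738 j) else (eT_738_742 j)
def eT_742_744 (j : ℕ) : ℕ := bif Nat.blt j 743 then E_742 else E_743
def eT_744_746 (j : ℕ) : ℕ := bif Nat.blt j 745 then E_744 else E_745
def eT_742_746 (j : ℕ) : ℕ := bif Nat.blt j 744 then (eT_742_744 j) else (eT_744_746 j)
def eT_746_748 (j : ℕ) : ℕ := bif Nat.blt j 747 then E_746 else E_747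
def eT_749_751 (j : ℕ) : ℕ := bif Nat.blt j 750 then E_749 else E_750
def eT_748_751 (j : ℕ) : ℕ := bif Nat.blt j 749 then E_748 else (eT_749_751 j)
def eT_746_751 (j : ℕ) : ℕ := bif Nat.blt j 748 then (eT_746_748 j) else (eT_748_751 j)
def eT_742_751 (j : ℕ) : ℕ := bif Nat.blt j 746 then (eT_742_746 j) else (eT_746_751 j)
def eT_734_751 (j : ℕ) : ℕ := bif Nat.blt j 742 then (eT_734_742 j) else (eT_742_751 j)
def eT_751_753 (j : ℕ) : ℕ := bif Nat.blt j 752 then E_751 else E_752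
def eT_753_755 (j : ℕ) : ℕ := bif Nat.blt j 754 then E_753 else E_754
def eT_751_755 (j : ℕ) : ℕ := bif Nat.blt j 753 then (eT_751_753 j) else (eT_753_755 j)
def eT_755_757 (j : ℕ) : ℕ := bif Nat.blt j 756 then E_755 else E_756
def eT_758_760 (j : ℕ) : ℕ := bif Nat.blt j 759 then E_758 else E_759
def eT_757_760 (j : ℕ) : ℕ := bif Nat.blt j 758 then E_757 else (eT_758_760 j)
def eT_755_760 (j : ℕ) : ℕ := bif Nat.blt j 757 then (eT_755_757 j) else (eT_757_760 j)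
def eT_751_760 (j : ℕ) : ℕ := bif Nat.blt j 755 then (eT_751_755 j) else (eT_755_760 j)
def eT_760_762 (j : ℕ) : ℕ := bif Nat.blt j 761 then E_760 else E_761
def eT_762_764 (j : ℕ) : ℕ := bif Nat.blt j 763 then E_762 else E_763
def eT_760_764 (j : ℕ) : ℕ := bif Nat.blt j 762 then (eT_760_762 j) else (eT_762_764 j)
def eT_764_766 (j : ℕ) : ℕ := bif Nat.blt j 765 then E_764 else E_765
def eT_767_769 (j : ℕ) : ℕ := bif Nat.blt j 768 then E_767 else E_768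
def eT_766_769 (j : ℕ) : ℕ := bif Nat.blt j 767 then E_766 else (eT_767_769 j)
def eT_764_769 (j : ℕ) : ℕ := bif Nat.blt j 766 then (eT_764_766 j) else (eT_766_769 j)
def eT_760_769 (j : ℕ) : ℕ := bif Nat.blt j 764 then (eT_760_764 j) else (eT_764_769 j)
def eT_751_769 (j : ℕ) : ℕ := bif Nat.blt j 760 then (eT_751_760 j) else (eT_760_769 j)
def eT_734_769 (j : ℕ) : ℕ := bif Nat.blt j 751 then (eT_734_751 j) else (eT_751_769 j)
def eT_699_769 (j : ℕ) : ℕ := bif Nat.blt j 734 then (eT_699_734 j) else (eT_734_769 j)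
def eT_769_771 (j : ℕ) : ℕ := bif Nat.blt j 770 then E_769 else E_770
def eT_771_773 (j : ℕ) : ℕ := bif Nat.blt j 772 then E_771 else E_772
def eT_769_773 (j : ℕ) : ℕ := bif Nat.blt j 771 then (eT_769_771 j) else (eT_771_773 j)
def eT_773_775 (j : ℕ) : ℕ := bif Nat.blt j 774 then E_773 else E_774
def eT_775_777 (j : ℕ) : ℕ := bif Nat.blt j 776 then E_775 else E_776
def eT_773_777 (j : ℕ) : ℕ := bif Nat.blt j 775 then (eT_773_775 j) else (eT_775_777 j)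
def eT_769_777 (j : ℕ) : ℕ := bif Nat.blt j 773 then (eT_769_773 j) else (eT_773_777 j)
def eT_777_779 (j : ℕ) : ℕ := bif Nat.blt j 778 then E_777 else E_778
def eT_779_781 (j : ℕ) : ℕ := bif Nat.blt j 780 then E_779 else E_780
def eT_777_781 (j : ℕ) : ℕ := bif Nat.blt j 779 then (eT_777_779 j) else (eT_779_781 j)
def eT_781_783 (j : ℕ) : ℕ := bif Nat.blt j 782 then E_781 else E_782
def eT_784_786 (j : ℕ) : ℕ := bif Nat.blt j 785 then E_784 else E_785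
def eT_783_786 (j : ℕ) : ℕ := bif Nat.blt j 784 then E_783 else (eT_784_786 j)
def eT_781_786 (j : ℕ) : ℕ := bif Nat.blt j 783 then (eT_781_783 j) else (eT_783_786 j)
def eT_777_786 (j : ℕ) : ℕ := bif Nat.blt j 781 then (eT_777_781 j) else (eT_781_786 j)
def eT_769_786 (j : ℕ) : ℕ := bif Nat.blt j 777 then (eT_769_777 j) else (eT_777_786 j)
def eT_786_788 (j : ℕ) : ℕ := bif Nat.blt j 787 then E_786 else E_787
def eT_788_790 (j : ℕ) : ℕ := bif Nat.blt j 789 then E_788 else E_789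
def eT_786_790 (j : ℕ) : ℕ := bif Nat.blt j 788 then (eT_786_788 j) else (eT_788_790 j)
def eT_790_792 (j : ℕ) : ℕ := bif Nat.blt j 791 then E_790 else E_791
def eT_793_795 (j : ℕ) : ℕ := bif Nat.blt j 794 then E_793 else E_794
def eT_792_795 (j : ℕ) : ℕ := bif Nat.blt j 793 then E_792 else (eT_793_795 j)
def eT_790_795 (j : ℕ) : ℕ := bif Nat.blt j 792 then (eT_790_792 j) else (eT_792_795 j)
def eT_786_795 (j : ℕ) : ℕ := bif Nat.blt j 790 then (eT_786_790 j) else (eT_790_795 j)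
def eT_795_797 (j : ℕ) : ℕ := bif Nat.blt j 796 then E_795 else E_796
def eT_797_799 (j : ℕ) : ℕ := bif Nat.blt j 798 then E_797 else E_798
def eT_795_799 (j : ℕ) : ℕ := bif Nat.blt j 797 then (eT_795_797 j) else (eT_797_799 j)
def eT_799_801 (j : ℕ) : ℕ := bif Nat.blt j 800 then E_799 else E_800
def eT_802_804 (j : ℕ) : ℕ := bif Nat.blt j 803 then E_802 else E_803
def eT_801_804 (j : ℕ) : ℕ := bif Nat.blt j 802 then E_801 else (eT_802_804 j)
def eT_799_804 (j : ℕ) : ℕ := bif Nat.blt j 801 then (eT_799_801 j) else (eT_801_804 j)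
def eT_795_804 (j : ℕ) : ℕ := bif Nat.blt j 799 then (eT_795_799 j) else (eT_799_804 j)
def eT_786_804 (j : ℕ) : ℕ := bif Nat.blt j 795 then (eT_786_795 j) else (eT_795_804 j)
def eT_769_804 (j : ℕ) : ℕ := bif Nat.blt j 786 then (eT_769_786 j) else (eT_786_804 j)
def eT_804_806 (j : ℕ) : ℕ := bif Nat.blt j 805 then E_804 else E_805
def eT_806_808 (j : ℕ) : ℕ := bif Nat.blt j 807 then E_806 else E_807
def eT_804_808 (j : ℕ) : ℕ := bif Nat.blt j 806 then (eT_804_806 j) else (eT_806_808 j)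
def eT_808_810 (j : ℕ) : ℕ := bif Nat.blt j 809 then E_808 else E_809
def eT_810_812 (j : ℕ) : ℕ := bif Nat.blt j 811 then E_810 else E_811
def eT_808_812 (j : ℕ) : ℕ := bif Nat.blt j 810 then (eT_808_810 j) else (eT_810_812 j)
def eT_804_812 (j : ℕ) : ℕ := bif Nat.blt j 808 then (eT_804_808 j) else (eT_808_812 j)
def eT_812_814 (j : ℕ) : ℕ := bif Nat.blt j 813 then E_812 else E_813
def eT_814_816 (j : ℕ) : ℕ := bif Nat.blt j 815 then E_814 else E_815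
def eT_812_816 (j : ℕ) : ℕ := bif Nat.blt j 814 then (eT_812_814 j) else (eT_814_816 j)
def eT_816_818 (j : ℕ) : ℕ := bif Nat.blt j 817 then E_816 else E_817
def eT_819_821 (j : ℕ) : ℕ := bif Nat.blt j 820 then E_819 else E_820
def eT_818_821 (j : ℕ) : ℕ := bif Nat.blt j 819 then E_818 else (eT_819_821 j)
def eT_816_821 (j : ℕ) : ℕ := bif Nat.blt j 818 then (eT_816_818 j) else (eT_818_821 j)
def eT_812_821 (j : ℕ) : ℕ := bif Nat.blt j 816 then (eT_812_816 j) else (eT_816_821 j)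
def eT_804_821 (j : ℕ) : ℕ := bif Nat.blt j 812 then (eT_804_812 j) else (eT_812_821 j)
def eT_821_823 (j : ℕ) : ℕ := bif Nat.blt j 822 then E_821 else E_822
def eT_823_825 (j : ℕ) : ℕ := bif Nat.blt j 824 then E_823 else E_824
def eT_821_825 (j : ℕ) : ℕ := bif Nat.blt j 823 then (eT_821_823 j) else (eT_823_825 j)
def eT_825_827 (j : ℕ) : ℕ := bif Nat.blt j 826 then E_825 else E_826
def eT_828_830 (j : ℕ) : ℕ := bif Nat.blt j 829 then E_828 else E_829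
def eT_827_830 (j : ℕ) : ℕ := bif Nat.blt j 828 then E_827 else (eT_828_830 j)
def eT_825_830 (j : ℕ) : ℕ := bif Nat.blt j 827 then (eT_825_827 j) else (eT_827_830 j)
def eT_821_830 (j : ℕ) : ℕ := bif Nat.blt j 825 then (eT_821_825 j) else (eT_825_830 j)
def eT_830_832 (j : ℕ) : ℕ := bif Nat.blt j 831 then E_830 else E_831
def eT_832_834 (j : ℕ) : ℕ := bif Nat.blt j 833 then E_832 else E_833
def eT_830_834 (j : ℕ) : ℕ := bif Nat.blt j 832 then (eT_830_832 j) else (eT_832_834 j)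
def eT_834_836 (j : ℕ) : ℕ := bif Nat.blt j 835 then E_834 else E_835
def eT_837_839 (j : ℕ) : ℕ := bif Nat.blt j 838 then E_837 else E_838
def eT_836_839 (j : ℕ) : ℕ := bif Nat.blt j 837 then E_836 else (eT_837_839 j)
def eT_834_839 (j : ℕ) : ℕ := bif Nat.blt j 836 then (eT_834_836 j) else (eT_836_839 j)
def eT_830_839 (j : ℕ) : ℕ := bif Nat.blt j 834 then (eT_830_834 j) else (eT_834_839 j)
def eT_821_839 (j : ℕ) : ℕ := bif Nat.blt j 830 then (eT_821_830 j) else (eT_830_839 j)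
def eT_804_839 (j : ℕ) : ℕ := bif Nat.blt j 821 then (eT_804_821 j) else (eT_821_839 j)
def eT_769_839 (j : ℕ) : ℕ := bif Nat.blt j 804 then (eT_769_804 j) else (eT_804_839 j)
def eT_699_839 (j : ℕ) : ℕ := bif Nat.blt j 769 then (eT_699_769 j) else (eT_769_839 j)
def eT_559_839 (j : ℕ) : ℕ := bif Nat.blt j 699 then (eT_559_699 j) else (eT_699_839 j)
def eT_839_841 (j : ℕ) : ℕ := bif Nat.blt j 840 then E_839 else E_840
def eT_841_843 (j : ℕ) : ℕ := bif Nat.blt j 842 then E_841 else E_842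
def eT_839_843 (j : ℕ) : ℕ := bif Nat.blt j 841 then (eT_839_841 j) else (eT_841_843 j)
def eT_843_845 (j : ℕ) : ℕ := bif Nat.blt j 844 then E_843 else E_844
def eT_845_847 (j : ℕ) : ℕ := bif Nat.blt j 846 then E_845 else E_846
def eT_843_847 (j : ℕ) : ℕ := bif Nat.blt j 845 then (eT_843_845 j) else (eT_845_847 j)
def eT_839_847 (j : ℕ) : ℕ := bif Nat.blt j 843 then (eT_839_843 j) else (eT_843_847 j)
def eT_847_849 (j : ℕ) : ℕ := bif Nat.blt j 848 then E_847 else E_848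
def eT_849_851 (j : ℕ) : ℕ := bif Nat.blt j 850 then E_849 else E_850
def eT_847_851 (j : ℕ) : ℕ := bif Nat.blt j 849 then (eT_847_849 j) else (eT_849_851 j)
def eT_851_853 (j : ℕ) : ℕ := bif Nat.blt j 852 then E_851 else E_852
def eT_854_856 (j : ℕ) : ℕ := bif Nat.blt j 855 then E_854 else E_855
def eT_853_856 (j : ℕ) : ℕ := bif Nat.blt j 854 then E_853 else (eT_854_856 j)
def eT_851_856 (j : ℕ) : ℕ := bif Nat.blt j 853 then (eT_851_853 j) else (eT_853_856 j)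
def eT_847_856 (j : ℕ) : ℕ := bif Nat.blt j 851 then (eT_847_851 j) else (eT_851_856 j)
def eT_839_856 (j : ℕ) : ℕ := bif Nat.blt j 847 then (eT_839_847 j) else (eT_847_856 j)
def eT_856_858 (j : ℕ) : ℕ := bif Nat.blt j 857 then E_856 else E_857
def eT_858_860 (j : ℕ) : ℕ := bif Nat.blt j 859 then E_858 else E_859
def eT_856_860 (j : ℕ) : ℕ := bif Nat.blt j 858 then (eT_856_858 j) else (eT_858_860 j)
def eT_860_862 (j : ℕ) : ℕ := bif Nat.blt j 861 then E_860 else E_861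
def eT_863_865 (j : ℕ) : ℕ := bif Nat.blt j 864 then E_863 else E_864
def eT_862_865 (j : ℕ) : ℕ := bif Nat.blt j 863 then E_862 else (eT_863_865 j)
def eT_860_865 (j : ℕ) : ℕ := bif Nat.blt j 862 then (eT_860_862 j) else (eT_862_865 j)
def eT_856_865 (j : ℕ) : ℕ := bif Nat.blt j 860 then (eT_856_860 j) else (eT_860_865 j)
def eT_865_867 (j : ℕ) : ℕ := bif Nat.blt j 866 then E_865 else E_866
def eT_867_869 (j : ℕ) : ℕ := bif Nat.blt j 868 then E_867 else E_868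
def eT_865_869 (j : ℕ) : ℕ := bif Nat.blt j 867 then (eT_865_867 j) else (eT_867_869 j)
def eT_869_871 (j : ℕ) : ℕ := bif Nat.blt j 870 then E_869 else E_870
def eT_872_874 (j : ℕ) : ℕ := bif Nat.blt j 873 then E_872 else E_873
def eT_871_874 (j : ℕ) : ℕ := bif Nat.blt j 872 then E_871 else (eT_872_874 j)
def eT_869_874 (j : ℕ) : ℕ := bif Nat.blt j 871 then (eT_869_871 j) else (eT_871_874 j)
def eT_865_874 (j : ℕ) : ℕ := bif Nat.blt j 869 then (eT_865_869 j) else (eT_869_874 j)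
def eT_856_874 (j : ℕ) : ℕ := bif Nat.blt j 865 then (eT_856_865 j) else (eT_865_874 j)
def eT_839_874 (j : ℕ) : ℕ := bif Nat.blt j 856 then (eT_839_856 j) else (eT_856_874 j)
def eT_874_876 (j : ℕ) : ℕ := bif Nat.blt j 875 then E_874 else E_875
def eT_876_878 (j : ℕ) : ℕ := bif Nat.blt j 877 then E_876 else E_877
def eT_874_878 (j : ℕ) : ℕ := bif Nat.blt j 876 then (eT_874_876 j) else (eT_876_878 j)
def eT_878_880 (j : ℕ) : ℕ := bif Nat.blt j 879 then E_878 else E_879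
def eT_880_882 (j : ℕ) : ℕ := bif Nat.blt j 881 then E_880 else E_881
def eT_878_882 (j : ℕ) : ℕ := bif Nat.blt j 880 then (eT_878_880 j) else (eT_880_882 j)
def eT_874_882 (j : ℕ) : ℕ := bif Nat.blt j 878 then (eT_874_878 j) else (eT_878_882 j)
def eT_882_884 (j : ℕ) : ℕ := bif Nat.blt j 883 then E_882 else E_883
def eT_884_886 (j : ℕ) : ℕ := bif Nat.blt j 885 then E_884 else E_885
def eT_882_886 (j : ℕ) : ℕ := bif Nat.blt j 884 then (eT_882_884 j) else (eT_884_886 j)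
def eT_886_888 (j : ℕ) : ℕ := bif Nat.blt j 887 then E_886 else E_887
def eT_889_891 (j : ℕ) : ℕ := bif Nat.blt j 890 then E_889 else E_890
def eT_888_891 (j : ℕ) : ℕ := bif Nat.blt j 889 then E_888 else (eT_889_891 j)
def eT_886_891 (j : ℕ) : ℕ := bif Nat.blt j 888 then (eT_886_888 j) else (eT_888_891 j)
def eT_882_891 (j : ℕ) : ℕ := bif Nat.blt j 886 then (eT_882_886 j) else (eT_886_891 j)
def eT_874_891 (j : ℕ) : ℕ := bif Nat.blt j 882 then (eT_874_882 j) else (eT_882_891 j)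
def eT_891_893 (j : ℕ) : ℕ := bif Nat.blt j 892 then E_891 else E_892
def eT_893_895 (j : ℕ) : ℕ := bif Nat.blt j 894 then E_893 else E_894
def eT_891_895 (j : ℕ) : ℕ := bif Nat.blt j 893 then (eT_891_893 j) else (eT_893_895 j)
def eT_895_897 (j : ℕ) : ℕ := bif Nat.blt j 896 then E_895 else E_896
def eT_898_900 (j : ℕ) : ℕ := bif Nat.blt j 899 then E_898 else E_899
def eT_897_900 (j : ℕ) : ℕ := bif Nat.blt j 898 then E_897 else (eT_898_900 j)
def eT_895_900 (j : ℕ) : ℕ := bif Nat.blt j 897 then (eT_895_897 j) else (eT_897_900 j)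
def eT_891_900 (j : ℕ) : ℕ := bif Nat.blt j 895 then (eT_891_895 j) else (eT_895_900 j)
def eT_900_902 (j : ℕ) : ℕ := bif Nat.blt j 901 then E_900 else E_901
def eT_902_904 (j : ℕ) : ℕ := bif Nat.blt j 903 then E_902 else E_903
def eT_900_904 (j : ℕ) : ℕ := bif Nat.blt j 902 then (eT_900_902 j) else (eT_902_904 j)
def eT_904_906 (j : ℕ) : ℕ := bif Nat.blt j 905 then E_904 else E_905
def eT_907_909 (j : ℕ) : ℕ := bif Nat.blt j 908 then E_907 else E_908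
def eT_906_909 (j : ℕ) : ℕ := bif Nat.blt j 907 then E_906 else (eT_907_909 j)
def eT_904_909 (j : ℕ) : ℕ := bif Nat.blt j 906 then (eT_904_906 j) else (eT_906_909 j)
def eT_900_909 (j : ℕ) : ℕ := bif Nat.blt j 904 then (eT_900_904 j) else (eT_904_909 j)
def eT_891_909 (j : ℕ) : ℕ := bif Nat.blt j 900 then (eT_891_900 j) else (eT_900_909 j)
def eT_874_909 (j : ℕ) : ℕ := bif Nat.blt j 891 then (eT_874_891 j) else (eT_891_909 j)
def eT_839_909 (j : ℕ) : ℕ := bif Nat.blt j 874 then (eT_839_874 j) else (eT_874_909 j)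
def eT_909_911 (j : ℕ) : ℕ := bif Nat.blt j 910 then E_909 else E_910
def eT_911_913 (j : ℕ) : ℕ := bif Nat.blt j 912 then E_911 else E_912
def eT_909_913 (j : ℕ) : ℕ := bif Nat.blt j 911 then (eT_909_911 j) else (eT_911_913 j)
def eT_913_915 (j : ℕ) : ℕ := bif Nat.blt j 914 then E_913 else E_914
def eT_915_917 (j : ℕ) : ℕ := bif Nat.blt j 916 then E_915 else E_916
def eT_913_917 (j : ℕ) : ℕ := bif Nat.blt j 915 then (eT_913_915 j) else (eT_915_917 j)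
def eT_909_917 (j : ℕ) : ℕ := bif Nat.blt j 913 then (eT_909_913 j) else (eT_913_917 j)
def eT_917_919 (j : ℕ) : ℕ := bif Nat.blt j 918 then E_917 else E_918
def eT_919_921 (j : ℕ) : ℕ := bif Nat.blt j 920 then E_919 else E_920
def eT_917_921 (j : ℕ) : ℕ := bif Nat.blt j 919 then (eT_917_919 j) else (eT_919_921 j)
def eT_921_923 (j : ℕ) : ℕ := bif Nat.blt j 922 then E_921 else E_922
def eT_924_926 (j : ℕ) : ℕ := bif Nat.blt j 925 then E_924 else E_925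
def eT_923_926 (j : ℕ) : ℕ := bif Nat.blt j 924 then E_923 else (eT_924_926 j)
def eT_921_926 (j : ℕ) : ℕ := bif Nat.blt j 923 then (eT_921_923 j) else (eT_923_926 j)
def eT_917_926 (j : ℕ) : ℕ := bif Nat.blt j 921 then (eT_917_921 j) else (eT_921_926 j)
def eT_909_926 (j : ℕ) : ℕ := bif Nat.blt j 917 then (eT_909_917 j) else (eT_917_926 j)
def eT_926_928 (j : ℕ) : ℕ := bif Nat.blt j 927 then E_926 else E_927
def eT_928_930 (j : ℕ) : ℕ := bif Nat.blt j 929 then E_928 else E_929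
def eT_926_930 (j : ℕ) : ℕ := bif Nat.blt j 928 then (eT_926_928 j) else (eT_928_930 j)
def eT_930_932 (j : ℕ) : ℕ := bif Nat.blt j 931 then E_930 else E_931
def eT_933_935 (j : ℕ) : ℕ := bif Nat.blt j 934 then E_933 else E_934
def eT_932_935 (j : ℕ) : ℕ := bif Nat.blt j 933 then E_932 else (eT_933_935 j)
def eT_930_935 (j : ℕ) : ℕ := bif Nat.blt j 932 then (eT_930_932 j) else (eT_932_935 j)
def eT_926_935 (j : ℕ) : ℕ := bif Nat.blt j 930 then (eT_926_930 j) else (eT_930_935 j)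
def eT_935_937 (j : ℕ) : ℕ := bif Nat.blt j 936 then E_935 else E_936
def eT_937_939 (j : ℕ) : ℕ := bif Nat.blt j 938 then E_937 else E_938
def eT_935_939 (j : ℕ) : ℕ := bif Nat.blt j 937 then (eT_935_937 j) else (eT_937_939 j)
def eT_939_941 (j : ℕ) : ℕ := bif Nat.blt j 940 then E_939 else E_940
def eT_942_944 (j : ℕ) : ℕ := bif Nat.blt j 943 then E_942 else E_943
def eT_941_944 (j : ℕ) : ℕ := bif Nat.blt j 942 then E_941 else (eT_942_944 j)
def eT_939_944 (j : ℕ) : ℕ := bif Nat.blt j 941 then (eT_939_941 j) else (eT_941_944 j)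
def eT_935_944 (j : ℕ) : ℕ := bif Nat.blt j 939 then (eT_935_939 j) else (eT_939_944 j)
def eT_926_944 (j : ℕ) : ℕ := bif Nat.blt j 935 then (eT_926_935 j) else (eT_935_944 j)
def eT_909_944 (j : ℕ) : ℕ := bif Nat.blt j 926 then (eT_909_926 j) else (eT_926_944 j)
def eT_944_946 (j : ℕ) : ℕ := bif Nat.blt j 945 then E_944 else E_945
def eT_946_948 (j : ℕ) : ℕ := bif Nat.blt j 947 then E_946 else E_947
def eT_944_948 (j : ℕ) : ℕ := bif Nat.blt j 946 then (eT_944_946 j) else (eT_946_948 j)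
def eT_948_950 (j : ℕ) : ℕ := bif Nat.blt j 949 then E_948 else E_949
def eT_950_952 (j : ℕ) : ℕ := bif Nat.blt j 951 then E_950 else E_951
def eT_948_952 (j : ℕ) : ℕ := bif Nat.blt j 950 then (eT_948_950 j) else (eT_950_952 j)
def eT_944_952 (j : ℕ) : ℕ := bif Nat.blt j 948 then (eT_944_948 j) else (eT_948_952 j)
def eT_952_954 (j : ℕ) : ℕ := bif Nat.blt j 953 then E_952 else E_953
def eT_954_956 (j : ℕ) : ℕ := bif Nat.blt j 955 then E_954 else E_955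
def eT_952_956 (j : ℕ) : ℕ := bif Nat.blt j 954 then (eT_952_954 j) else (eT_954_956 j)
def eT_956_958 (j : ℕ) : ℕ := bif Nat.blt j 957 then E_956 else E_957
def eT_959_961 (j : ℕ) : ℕ := bif Nat.blt j 960 then E_959 else E_960
def eT_958_961 (j : ℕ) : ℕ := bif Nat.blt j 959 then E_958 else (eT_959_961 j)
def eT_956_961 (j : ℕ) : ℕ := bif Nat.blt j 958 then (eT_956_958 j) else (eT_958_961 j)
def eT_952_961 (j : ℕ) : ℕ := bif Nat.blt j 956 then (eT_952_956 j) else (eT_956_961 j)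
def eT_944_961 (j : ℕ) : ℕ := bif Nat.blt j 952 then (eT_944_952 j) else (eT_952_961 j)
def eT_961_963 (j : ℕ) : ℕ := bif Nat.blt j 962 then E_961 else E_962
def eT_963_965 (j : ℕ) : ℕ := bif Nat.blt j 964 then E_963 else E_964
def eT_961_965 (j : ℕ) : ℕ := bif Nat.blt j 963 then (eT_961_963 j) else (eT_963_965 j)
def eT_965_967 (j : ℕ) : ℕ := bif Nat.blt j 966 then E_965 else E_966
def eT_968_970 (j : ℕ) : ℕ := bif Nat.blt j 969 then E_968 else E_969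
def eT_967_970 (j : ℕ) : ℕ := bif Nat.blt j 968 then E_967 else (eT_968_970 j)
def eT_965_970 (j : ℕ) : ℕ := bif Nat.blt j 967 then (eT_965_967 j) else (eT_967_970 j)
def eT_961_970 (j : ℕ) : ℕ := bif Nat.blt j 965 then (eT_961_965 j) else (eT_965_970 j)
def eT_970_972 (j : ℕ) : ℕ := bif Nat.blt j 971 then E_970 else E_971
def eT_972_974 (j : ℕ) : ℕ := bif Nat.blt j 973 then E_972 else E_973
def eT_970_974 (j : ℕ) : ℕ := bif Nat.blt j 972 then (eT_970_972 j) else (eT_972_974 j)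
def eT_974_976 (j : ℕ) : ℕ := bif Nat.blt j 975 then E_974 else E_975
def eT_977_979 (j : ℕ) : ℕ := bif Nat.blt j 978 then E_977 else E_978
def eT_976_979 (j : ℕ) : ℕ := bif Nat.blt j 977 then E_976 else (eT_977_979 j)
def eT_974_979 (j : ℕ) : ℕ := bif Nat.blt j 976 then (eT_974_976 j) else (eT_976_979 j)
def eT_970_979 (j : ℕ) : ℕ := bif Nat.blt j 974 then (eT_970_974 j) else (eT_974_979 j)
def eT_961_979 (j : ℕ) : ℕ := bif Nat.blt j 970 then (eT_961_970 j) else (eT_970_979 j)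
def eT_944_979 (j : ℕ) : ℕ := bif Nat.blt j 961 then (eT_944_961 j) else (eT_961_979 j)
def eT_909_979 (j : ℕ) : ℕ := bif Nat.blt j 944 then (eT_909_944 j) else (eT_944_979 j)
def eT_839_979 (j : ℕ) : ℕ := bif Nat.blt j 909 then (eT_839_909 j) else (eT_909_979 j)
def eT_979_981 (j : ℕ) : ℕ := bif Nat.blt j 980 then E_979 else E_980
def eT_981_983 (j : ℕ) : ℕ := bif Nat.blt j 982 then E_981 else E_982
def eT_979_983 (j : ℕ) : ℕ := bif Nat.blt j 981 then (eT_979_981 j) else (eT_981_983 j)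
def eT_983_985 (j : ℕ) : ℕ := bif Nat.blt j 984 then E_983 else E_984
def eT_985_987 (j : ℕ) : ℕ := bif Nat.blt j 986 then E_985 else E_986
def eT_983_987 (j : ℕ) : ℕ := bif Nat.blt j 985 then (eT_983_985 j) else (eT_985_987 j)
def eT_979_987 (j : ℕ) : ℕ := bif Nat.blt j 983 then (eT_979_983 j) else (eT_983_987 j)
def eT_987_989 (j : ℕ) : ℕ := bif Nat.blt j 988 then E_987 else E_988
def eT_989_991 (j : ℕ) : ℕ := bif Nat.blt j 990 then E_989 else E_990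
def eT_987_991 (j : ℕ) : ℕ := bif Nat.blt j 989 then (eT_987_989 j) else (eT_989_991 j)
def eT_991_993 (j : ℕ) : ℕ := bif Nat.blt j 992 then E_991 else E_992
def eT_994_996 (j : ℕ) : ℕ := bif Nat.blt j 995 then E_994 else E_995
def eT_993_996 (j : ℕ) : ℕ := bif Nat.blt j 994 then E_993 else (eT_994_996 j)
def eT_991_996 (j : ℕ) : ℕ := bif Nat.blt j 993 then (eT_991_993 j) else (eT_993_996 j)
def eT_987_996 (j : ℕ) : ℕ := bif Nat.blt j 991 then (eT_987_991 j) else (eT_991_996 j)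
def eT_979_996 (j : ℕ) : ℕ := bif Nat.blt j 987 then (eT_979_987 j) else (eT_987_996 j)
def eT_996_998 (j : ℕ) : ℕ := bif Nat.blt j 997 then E_996 else E_997
def eT_998_1000 (j : ℕ) : ℕ := bif Nat.blt j 999 then E_998 else E_999
def eT_996_1000 (j : ℕ) : ℕ := bif Nat.blt j 998 then (eT_996_998 j) else (eT_998_1000 j)
def eT_1000_1002 (j : ℕ) : ℕ := bif Nat.blt j 1001 then E_1000 else E_1001
def eT_1003_1005 (j : ℕ) : ℕ := bif Nat.blt j 1004 then E_1003 else E_1004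
def eT_1002_1005 (j : ℕ) : ℕ := bif Nat.blt j 1003 then E_1002 else (eT_1003_1005 j)
def eT_1000_1005 (j : ℕ) : ℕ := bif Nat.blt j 1002 then (eT_1000_1002 j) else (eT_1002_1005 j)
def eT_996_1005 (j : ℕ) : ℕ := bif Nat.blt j 1000 then (eT_996_1000 j) else (eT_1000_1005 j)
def eT_1005_1007 (j : ℕ) : ℕ := bif Nat.blt j 1006 then E_1005 else E_1006
def eT_1007_1009 (j : ℕ) : ℕ := bif Nat.blt j 1008 then E_1007 else E_1008
def eT_1005_1009 (j : ℕ) : ℕ := bif Nat.blt j 1007 then (eT_1005_1007 j) else (eT_1007_1009 j)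
def eT_1009_1011 (j : ℕ) : ℕ := bif Nat.blt j 1010 then E_1009 else E_1010
def eT_1012_1014 (j : ℕ) : ℕ := bif Nat.blt j 1013 then E_1012 else E_1013
def eT_1011_1014 (j : ℕ) : ℕ := bif Nat.blt j 1012 then E_1011 else (eT_1012_1014 j)
def eT_1009_1014 (j : ℕ) : ℕ := bif Nat.blt j 1011 then (eT_1009_1011 j) else (eT_1011_1014 j)
def eT_1005_1014 (j : ℕ) : ℕ := bif Nat.blt j 1009 then (eT_1005_1009 j) else (eT_1009_1014 j)
def eT_996_1014 (j : ℕ) : ℕ := bif Nat.blt j 1005 then (eT_996_1005 j) else (eT_1005_1014 j)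
def eT_979_1014 (j : ℕ) : ℕ := bif Nat.blt j 996 then (eT_979_996 j) else (eT_996_1014 j)
def eT_1014_1016 (j : ℕ) : ℕ := bif Nat.blt j 1015 then E_1014 else E_1015
def eT_1016_1018 (j : ℕ) : ℕ := bif Nat.blt j 1017 then E_1016 else E_1017
def eT_1014_1018 (j : ℕ) : ℕ := bif Nat.blt j 1016 then (eT_1014_1016 j) else (eT_1016_1018 j)
def eT_1018_1020 (j : ℕ) : ℕ := bif Nat.blt j 1019 then E_1018 else E_1019
def eT_1020_1022 (j : ℕ) : ℕ := bif Nat.blt j 1021 then E_1020 else E_1021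
def eT_1018_1022 (j : ℕ) : ℕ := bif Nat.blt j 1020 then (eT_1018_1020 j) else (eT_1020_1022 j)
def eT_1014_1022 (j : ℕ) : ℕ := bif Nat.blt j 1018 then (eT_1014_1018 j) else (eT_1018_1022 j)
def eT_1022_1024 (j : ℕ) : ℕ := bif Nat.blt j 1023 then E_1022 else E_1023
def eT_1024_1026 (j : ℕ) : ℕ := bif Nat.blt j 1025 then E_1024 else E_1025
def eT_1022_1026 (j : ℕ) : ℕ := bif Nat.blt j 1024 then (eT_1022_1024 j) else (eT_1024_1026 j)
def eT_1026_1028 (j : ℕ) : ℕ := bif Nat.blt j 1027 then E_1026 else E_1027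
def eT_1029_1031 (j : ℕ) : ℕ := bif Nat.blt j 1030 then E_1029 else E_1030
def eT_1028_1031 (j : ℕ) : ℕ := bif Nat.blt j 1029 then E_1028 else (eT_1029_1031 j)
def eT_1026_1031 (j : ℕ) : ℕ := bif Nat.blt j 1028 then (eT_1026_1028 j) else (eT_1028_1031 j)
def eT_1022_1031 (j : ℕ) : ℕ := bif Nat.blt j 1026 then (eT_1022_1026 j) else (eT_1026_1031 j)
def eT_1014_1031 (j : ℕ) : ℕ := bif Nat.blt j 1022 then (eT_1014_1022 j) else (eT_1022_1031 j)
def eT_1031_1033 (j : ℕ) : ℕ := bif Nat.blt j 1032 then E_1031 else E_1032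
def eT_1033_1035 (j : ℕ) : ℕ := bif Nat.blt j 1034 then E_1033 else E_1034
def eT_1031_1035 (j : ℕ) : ℕ := bif Nat.blt j 1033 then (eT_1031_1033 j) else (eT_1033_1035 j)
def eT_1035_1037 (j : ℕ) : ℕ := bif Nat.blt j 1036 then E_1035 else E_1036
def eT_1038_1040 (j : ℕ) : ℕ := bif Nat.blt j 1039 then E_1038 else E_1039
def eT_1037_1040 (j : ℕ) : ℕ := bif Nat.blt j 1038 then E_1037 else (eT_1038_1040 j)
def eT_1035_1040 (j : ℕ) : ℕ := bif Nat.blt j 1037 then (eT_1035_1037 j) else (eT_1037_1040 j)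
def eT_1031_1040 (j : ℕ) : ℕ := bif Nat.blt j 1035 then (eT_1031_1035 j) else (eT_1035_1040 j)
def eT_1040_1042 (j : ℕ) : ℕ := bif Nat.blt j 1041 then E_1040 else E_1041
def eT_1042_1044 (j : ℕ) : ℕ := bif Nat.blt j 1043 then E_1042 else E_1043
def eT_1040_1044 (j : ℕ) : ℕ := bif Nat.blt j 1042 then (eT_1040_1042 j) else (eT_1042_1044 j)
def eT_1044_1046 (j : ℕ) : ℕ := bif Nat.blt j 1045 then E_1044 else E_1045
def eT_1047_1049 (j : ℕ) : ℕ := bif Nat.blt j 1048 then E_1047 else E_1048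
def eT_1046_1049 (j : ℕ) : ℕ := bif Nat.blt j 1047 then E_1046 else (eT_1047_1049 j)
def eT_1044_1049 (j : ℕ) : ℕ := bif Nat.blt j 1046 then (eT_1044_1046 j) else (eT_1046_1049 j)
def eT_1040_1049 (j : ℕ) : ℕ := bif Nat.blt j 1044 then (eT_1040_1044 j) else (eT_1044_1049 j)
def eT_1031_1049 (j : ℕ) : ℕ := bif Nat.blt j 1040 then (eT_1031_1040 j) else (eT_1040_1049 j)
def eT_1014_1049 (j : ℕ) : ℕ := bif Nat.blt j 1031 then (eT_1014_1031 j) else (eT_1031_1049 j)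
def eT_979_1049 (j : ℕ) : ℕ := bif Nat.blt j 1014 then (eT_979_1014 j) else (eT_1014_1049 j)
def eT_1049_1051 (j : ℕ) : ℕ := bif Nat.blt j 1050 then E_1049 else E_1050
def eT_1051_1053 (j : ℕ) : ℕ := bif Nat.blt j 1052 then E_1051 else E_1052
def eT_1049_1053 (j : ℕ) : ℕ := bif Nat.blt j 1051 then (eT_1049_1051 j) else (eT_1051_1053 j)
def eT_1053_1055 (j : ℕ) : ℕ := bif Nat.blt j 1054 then E_1053 else E_1054
def eT_1055_1057 (j : ℕ) : ℕ := bif Nat.blt j 1056 then E_1055 else E_1056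
def eT_1053_1057 (j : ℕ) : ℕ := bif Nat.blt j 1055 then (eT_1053_1055 j) else (eT_1055_1057 j)
def eT_1049_1057 (j : ℕ) : ℕ := bif Nat.blt j 1053 then (eT_1049_1053 j) else (eT_1053_1057 j)
def eT_1057_1059 (j : ℕ) : ℕ := bif Nat.blt j 1058 then E_1057 else E_1058
def eT_1059_1061 (j : ℕ) : ℕ := bif Nat.blt j 1060 then E_1059 else E_1060
def eT_1057_1061 (j : ℕ) : ℕ := bif Nat.blt j 1059 then (eT_1057_1059 j) else (eT_1059_1061 j)
def eT_1061_1063 (j : ℕ) : ℕ := bif Nat.blt j 1062 then E_1061 else E_1062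
def eT_1064_1066 (j : ℕ) : ℕ := bif Nat.blt j 1065 then E_1064 else E_1065
def eT_1063_1066 (j : ℕ) : ℕ := bif Nat.blt j 1064 then E_1063 else (eT_1064_1066 j)
def eT_1061_1066 (j : ℕ) : ℕ := bif Nat.blt j 1063 then (eT_1061_1063 j) else (eT_1063_1066 j)
def eT_1057_1066 (j : ℕ) : ℕ := bif Nat.blt j 1061 then (eT_1057_1061 j) else (eT_1061_1066 j)
def eT_1049_1066 (j : ℕ) : ℕ := bif Nat.blt j 1057 then (eT_1049_1057 j) else (eT_1057_1066 j)
def eT_1066_1068 (j : ℕ) : ℕ := bif Nat.blt j 1067 then E_1066 else E_1067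
def eT_1068_1070 (j : ℕ) : ℕ := bif Nat.blt j 1069 then E_1068 else E_1069
def eT_1066_1070 (j : ℕ) : ℕ := bif Nat.blt j 1068 then (eT_1066_1068 j) else (eT_1068_1070 j)
def eT_1070_1072 (j : ℕ) : ℕ := bif Nat.blt j 1071 then E_1070 else E_1071
def eT_1073_1075 (j : ℕ) : ℕ := bif Nat.blt j 1074 then E_1073 else E_1074
def eT_1072_1075 (j : ℕ) : ℕ := bif Nat.blt j 1073 then E_1072 else (eT_1073_1075 j)
def eT_1070_1075 (j : ℕ) : ℕ := bif Nat.blt j 1072 then (eT_1070_1072 j) else (eT_1072_1075 j)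
def eT_1066_1075 (j : ℕ) : ℕ := bif Nat.blt j 1070 then (eT_1066_1070 j) else (eT_1070_1075 j)
def eT_1075_1077 (j : ℕ) : ℕ := bif Nat.blt j 1076 then E_1075 else E_1076
def eT_1077_1079 (j : ℕ) : ℕ := bif Nat.blt j 1078 then E_1077 else E_1078
def eT_1075_1079 (j : ℕ) : ℕ := bif Nat.blt j 1077 then (eT_1075_1077 j) else (eT_1077_1079 j)
def eT_1079_1081 (j : ℕ) : ℕ := bif Nat.blt j 1080 then E_1079 else E_1080
def eT_1082_1084 (j : ℕ) : ℕ := bif Nat.blt j 1083 then E_1082 else E_1083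
def eT_1081_1084 (j : ℕ) : ℕ := bif Nat.blt j 1082 then E_1081 else (eT_1082_1084 j)
def eT_1079_1084 (j : ℕ) : ℕ := bif Nat.blt j 1081 then (eT_1079_1081 j) else (eT_1081_1084 j)
def eT_1075_1084 (j : ℕ) : ℕ := bif Nat.blt j 1079 then (eT_1075_1079 j) else (eT_1079_1084 j)
def eT_1066_1084 (j : ℕ) : ℕ := bif Nat.blt j 1075 then (eT_1066_1075 j) else (eT_1075_1084 j)
def eT_1049_1084 (j : ℕ) : ℕ := bif Nat.blt j 1066 then (eT_1049_1066 j) else (eT_1066_1084 j)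
def eT_1084_1086 (j : ℕ) : ℕ := bif Nat.blt j 1085 then E_1084 else E_1085
def eT_1086_1088 (j : ℕ) : ℕ := bif Nat.blt j 1087 then E_1086 else E_1087
def eT_1084_1088 (j : ℕ) : ℕ := bif Nat.blt j 1086 then (eT_1084_1086 j) else (eT_1086_1088 j)
def eT_1088_1090 (j : ℕ) : ℕ := bif Nat.blt j 1089 then E_1088 else E_1089
def eT_1090_1092 (j : ℕ) : ℕ := bif Nat.blt j 1091 then E_1090 else E_1091
def eT_1088_1092 (j : ℕ) : ℕ := bif Nat.blt j 1090 then (eT_1088_1090 j) else (eT_1090_1092 j)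
def eT_1084_1092 (j : ℕ) : ℕ := bif Nat.blt j 1088 then (eT_1084_1088 j) else (eT_1088_1092 j)
def eT_1092_1094 (j : ℕ) : ℕ := bif Nat.blt j 1093 then E_1092 else E_1093
def eT_1094_1096 (j : ℕ) : ℕ := bif Nat.blt j 1095 then E_1094 else E_1095
def eT_1092_1096 (j : ℕ) : ℕ := bif Nat.blt j 1094 then (eT_1092_1094 j) else (eT_1094_1096 j)
def eT_1096_1098 (j : ℕ) : ℕ := bif Nat.blt j 1097 then E_1096 else E_1097
def eT_1099_1101 (j : ℕ) : ℕ := bif Nat.blt j 1100 then E_1099 else E_1100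
def eT_1098_1101 (j : ℕ) : ℕ := bif Nat.blt j 1099 then E_1098 else (eT_1099_1101 j)
def eT_1096_1101 (j : ℕ) : ℕ := bif Nat.blt j 1098 then (eT_1096_1098 j) else (eT_1098_1101 j)
def eT_1092_1101 (j : ℕ) : ℕ := bif Nat.blt j 1096 then (eT_1092_1096 j) else (eT_1096_1101 j)
def eT_1084_1101 (j : ℕ) : ℕ := bif Nat.blt j 1092 then (eT_1084_1092 j) else (eT_1092_1101 j)
def eT_1101_1103 (j : ℕ) : ℕ := bif Nat.blt j 1102 then E_1101 else E_1102
def eT_1103_1105 (j : ℕ) : ℕ := bif Nat.blt j 1104 then E_1103 else E_1104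
def eT_1101_1105 (j : ℕ) : ℕ := bif Nat.blt j 1103 then (eT_1101_1103 j) else (eT_1103_1105 j)
def eT_1105_1107 (j : ℕ) : ℕ := bif Nat.blt j 1106 then E_1105 else E_1106
def eT_1108_1110 (j : ℕ) : ℕ := bif Nat.blt j 1109 then E_1108 else E_1109
def eT_1107_1110 (j : ℕ) : ℕ := bif Nat.blt j 1108 then E_1107 else (eT_1108_1110 j)
def eT_1105_1110 (j : ℕ) : ℕ := bif Nat.blt j 1107 then (eT_1105_1107 j) else (eT_1107_1110 j)
def eT_1101_1110 (j : ℕ) : ℕ := bif Nat.blt j 1105 then (eT_1101_1105 j) else (eT_1105_1110 j)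
def eT_1110_1112 (j : ℕ) : ℕ := bif Nat.blt j 1111 then E_1110 else E_1111
def eT_1112_1114 (j : ℕ) : ℕ := bif Nat.blt j 1113 then E_1112 else E_1113
def eT_1110_1114 (j : ℕ) : ℕ := bif Nat.blt j 1112 then (eT_1110_1112 j) else (eT_1112_1114 j)
def eT_1114_1116 (j : ℕ) : ℕ := bif Nat.blt j 1115 then E_1114 else E_1115
def eT_1117_1119 (j : ℕ) : ℕ := bif Nat.blt j 1118 then E_1117 else E_1118
def eT_1116_1119 (j : ℕ) : ℕ := bif Nat.blt j 1117 then E_1116 else (eT_1117_1119 j)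
def eT_1114_1119 (j : ℕ) : ℕ := bif Nat.blt j 1116 then (eT_1114_1116 j) else (eT_1116_1119 j)
def eT_1110_1119 (j : ℕ) : ℕ := bif Nat.blt j 1114 then (eT_1110_1114 j) else (eT_1114_1119 j)
def eT_1101_1119 (j : ℕ) : ℕ := bif Nat.blt j 1110 then (eT_1101_1110 j) else (eT_1110_1119 j)
def eT_1084_1119 (j : ℕ) : ℕ := bif Nat.blt j 1101 then (eT_1084_1101 j) else (eT_1101_1119 j)
def eT_1049_1119 (j : ℕ) : ℕ := bif Nat.blt j 1084 then (eT_1049_1084 j) else (eT_1084_1119 j)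
def eT_979_1119 (j : ℕ) : ℕ := bif Nat.blt j 1049 then (eT_979_1049 j) else (eT_1049_1119 j)
def eT_839_1119 (j : ℕ) : ℕ := bif Nat.blt j 979 then (eT_839_979 j) else (eT_979_1119 j)
def eT_559_1119 (j : ℕ) : ℕ := bif Nat.blt j 839 then (eT_559_839 j) else (eT_839_1119 j)
def eT_0_1119 (j : ℕ) : ℕ := bif Nat.blt j 559 then (eT_0_559 j) else (eT_559_1119 j)
def eT (j : ℕ) : ℕ := (eT_0_1119 j)
noncomputable def chunkF (h : ℕ) : ℕ := Nat.rec (motive := fun _ => ℕ) (eT 0) (fun n _ => eT (Nat.succ n)) h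
noncomputable def Eo (r : ℕ) : ℕ := Nat.land (Nat.shiftRight (chunkF (Nat.shiftRight r 8)) (Nat.mul (Nat.land r 255) 54)) 18014398509481983
def invT : ℕ := 0xffef7cefae78df6d74cf2c70beeb6caeaa689e69648e28607de75c6da6585d65544d24503ce34c2ca2481c61440c2040
def inv (y : ℕ) : ℕ := invOf invT y
def Wt_0_2 (j : ℕ) : List ℕ := bif Nat.blt j 1 then [nat_lit 2, nat_lit 3, nat_lit 2, nat_lit 3] else [nat_lit 2, nat_lit 1, nat_lit 2, nat_lit 1, nat_lit 2, nat_lit 1]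
def Wt_3_5 (j : ℕ) : List ℕ := bif Nat.blt j 4 then [nat_lit 1, nat_lit 0, nat_lit 1, nat_lit 0, nat_lit 1, nat_lit 0, nat_lit 1, nat_lit 0, nat_lit 1, nat_lit 0] else [nat_lit 2, nat_lit 3, nat_lit 0, nat_lit 3, nat_lit 2, nat_lit 0, nat_lit 1, nat_lit 3, nat_lit 1, nat_lit 0]
def Wt_2_5 (j : ℕ) : List ℕ := bif Nat.blt j 3 then [nat_lit 1, nat_lit 2, nat_lit 1, nat_lit 2, nat_lit 1, nat_lit 2] else (Wt_3_5 j)
def Wt_0_5 (j : ℕ) : List ℕ := bif Nat.blt j 2 then (Wt_0_2 j) else (Wt_2_5 j)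
def Wt_5_7 (j : ℕ) : List ℕ := bif Nat.blt j 6 then [nat_lit 3, nat_lit 2, nat_lit 3, nat_lit 2] else [nat_lit 2, nat_lit 0, nat_lit 2, nat_lit 0, nat_lit 2, nat_lit 0, nat_lit 2, nat_lit 0, nat_lit 2, nat_lit 0]
def Wt_8_10 (j : ℕ) : List ℕ := bif Nat.blt j 9 then [nat_lit 2, nat_lit 0, nat_lit 1, nat_lit 3, nat_lit 1, nat_lit 0, nat_lit 2, nat_lit 3, nat_lit 0, nat_lit 3] else [nat_lit 2, nat_lit 0, nat_lit 1, nat_lit 0, nat_lit 2, nat_lit 0, nat_lit 1, nat_lit 0, nat_lit 1, nat_lit 2, nat_lit 0]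
def Wt_7_10 (j : ℕ) : List ℕ := bif Nat.blt j 8 then [nat_lit 3, nat_lit 1, nat_lit 0, nat_lit 2, nat_lit 3, nat_lit 0, nat_lit 3, nat_lit 2, nat_lit 0, nat_lit 1] else (Wt_8_10 j)
def Wt_5_10 (j : ℕ) : List ℕ := bif Nat.blt j 7 then (Wt_5_7 j) else (Wt_7_10 j)
def Wt_0_10 (j : ℕ) : List ℕ := bif Nat.blt j 5 then (Wt_0_5 j) else (Wt_5_10 j)
def Wt_10_12 (j : ℕ) : List ℕ := bif Nat.blt j 11 then [nat_lit 63, nat_lit 1, nat_lit 0, nat_lit 1, nat_lit 2, nat_lit 0, nat_lit 2, nat_lit 0, nat_lit 1, nat_lit 0, nat_lit 2, nat_lit 0] else [nat_lit 1, nat_lit 1, nat_lit 63]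
def Wt_13_15 (j : ℕ) : List ℕ := bif Nat.blt j 14 then [nat_lit 63, nat_lit 0, nat_lit 63, nat_lit 0] else [nat_lit 0, nat_lit 0, nat_lit 63]
def Wt_12_15 (j : ℕ) : List ℕ := bif Nat.blt j 13 then [nat_lit 63, nat_lit 2, nat_lit 1, nat_lit 0, nat_lit 1, nat_lit 0, nat_lit 2, nat_lit 0, nat_lit 1, nat_lit 0, nat_lit 2, nat_lit 0] else (Wt_13_15 j)
def Wt_10_15 (j : ℕ) : List ℕ := bif Nat.blt j 12 then (Wt_10_12 j) else (Wt_12_15 j)
def Wt_15_17 (j : ℕ) : List ℕ := bif Nat.blt j 16 then [nat_lit 63, nat_lit 2, nat_lit 0, nat_lit 2, nat_lit 0, nat_lit 1, nat_lit 0, nat_lit 2, nat_lit 0, nat_lit 1, nat_lit 0, nat_lit 1] else [nat_lit 2, nat_lit 2, nat_lit 63]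
def Wt_18_20 (j : ℕ) : List ℕ := bif Nat.blt j 19 then [nat_lit 63, nat_lit 2, nat_lit 1, nat_lit 2, nat_lit 1, nat_lit 2, nat_lit 1] else [nat_lit 0, nat_lit 2, nat_lit 0, nat_lit 2, nat_lit 1, nat_lit 0, nat_lit 1, nat_lit 0, nat_lit 2, nat_lit 0, nat_lit 1]
def Wt_17_20 (j : ℕ) : List ℕ := bif Nat.blt j 18 then [nat_lit 63, nat_lit 1, nat_lit 2, nat_lit 1, nat_lit 2, nat_lit 1, nat_lit 2] else (Wt_18_20 j)
def Wt_15_20 (j : ℕ) : List ℕ := bif Nat.blt j 17 then (Wt_15_17 j) else (Wt_17_20 j)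
def Wt_10_20 (j : ℕ) : List ℕ := bif Nat.blt j 15 then (Wt_10_15 j) else (Wt_15_20 j)
def Wt_0_20 (j : ℕ) : List ℕ := bif Nat.blt j 10 then (Wt_0_10 j) else (Wt_10_20 j)
def Wt_20_22 (j : ℕ) : List ℕ := bif Nat.blt j 21 then [nat_lit 1, nat_lit 0, nat_lit 1, nat_lit 0, nat_lit 2, nat_lit 0, nat_lit 1, nat_lit 0, nat_lit 2, nat_lit 0, nat_lit 2] else [nat_lit 3, nat_lit 2, nat_lit 0, nat_lit 1, nat_lit 3, nat_lit 1, nat_lit 0, nat_lit 2, nat_lit 3, nat_lit 0]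
def Wt_23_25 (j : ℕ) : List ℕ := bif Nat.blt j 24 then [nat_lit 63, nat_lit 0, nat_lit 1, nat_lit 0, nat_lit 2, nat_lit 0, nat_lit 1, nat_lit 0, nat_lit 2, nat_lit 0, nat_lit 2, nat_lit 1] else [nat_lit 63, nat_lit 2, nat_lit 63, nat_lit 2]
def Wt_22_25 (j : ℕ) : List ℕ := bif Nat.blt j 23 then [nat_lit 1, nat_lit 0, nat_lit 2, nat_lit 0, nat_lit 2, nat_lit 1, nat_lit 0, nat_lit 1, nat_lit 0, nat_lit 2, nat_lit 0] else (Wt_23_25 j)
def Wt_20_25 (j : ℕ) : List ℕ := bif Nat.blt j 22 then (Wt_20_22 j) else (Wt_22_25 j)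
def Wt_25_27 (j : ℕ) : List ℕ := bif Nat.blt j 26 then [nat_lit 2, nat_lit 0, nat_lit 2, nat_lit 0, nat_lit 1, nat_lit 0, nat_lit 2, nat_lit 0, nat_lit 1, nat_lit 0, nat_lit 1] else [nat_lit 0, nat_lit 1, nat_lit 0, nat_lit 2, nat_lit 0, nat_lit 2, nat_lit 1, nat_lit 0, nat_lit 1, nat_lit 0, nat_lit 2]
def Wt_28_30 (j : ℕ) : List ℕ := bif Nat.blt j 29 then [nat_lit 1, nat_lit 3, nat_lit 1, nat_lit 0, nat_lit 2, nat_lit 3, nat_lit 0, nat_lit 3, nat_lit 2, nat_lit 0] else [nat_lit 4, nat_lit 3, nat_lit 4, nat_lit 3, nat_lit 4, nat_lit 3, nat_lit 4, nat_lit 3, nat_lit 4, nat_lit 3]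
def Wt_27_30 (j : ℕ) : List ℕ := bif Nat.blt j 28 then [nat_lit 0, nat_lit 2, nat_lit 3, nat_lit 0, nat_lit 3, nat_lit 2, nat_lit 0, nat_lit 1, nat_lit 3, nat_lit 1] else (Wt_28_30 j)
def Wt_25_30 (j : ℕ) : List ℕ := bif Nat.blt j 27 then (Wt_25_27 j) else (Wt_27_30 j)
def Wt_20_30 (j : ℕ) : List ℕ := bif Nat.blt j 25 then (Wt_20_25 j) else (Wt_25_30 j)
def Wt_30_32 (j : ℕ) : List ℕ := bif Nat.blt j 31 then [nat_lit 3, nat_lit 4, nat_lit 3, nat_lit 2, nat_lit 4, nat_lit 3, nat_lit 0, nat_lit 1, nat_lit 4, nat_lit 0, nat_lit 3, nat_lit 4] else [nat_lit 0, nat_lit 3, nat_lit 4, nat_lit 2, nat_lit 3, nat_lit 4, nat_lit 3, nat_lit 4, nat_lit 3, nat_lit 0, nat_lit 4, nat_lit 1]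
def Wt_33_35 (j : ℕ) : List ℕ := bif Nat.blt j 34 then [nat_lit 0, nat_lit 1, nat_lit 0, nat_lit 1, nat_lit 0, nat_lit 1, nat_lit 0, nat_lit 1, nat_lit 0, nat_lit 1] else [nat_lit 4, nat_lit 1, nat_lit 0, nat_lit 2, nat_lit 4, nat_lit 1, nat_lit 0, nat_lit 2, nat_lit 4, nat_lit 1, nat_lit 0, nat_lit 2]
def Wt_32_35 (j : ℕ) : List ℕ := bif Nat.blt j 33 then [nat_lit 4, nat_lit 2, nat_lit 0, nat_lit 1, nat_lit 4, nat_lit 2, nat_lit 0, nat_lit 1, nat_lit 4, nat_lit 2, nat_lit 0, nat_lit 1] else (Wt_33_35 j)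
def Wt_30_35 (j : ℕ) : List ℕ := bif Nat.blt j 32 then (Wt_30_32 j) else (Wt_32_35 j)
def Wt_35_37 (j : ℕ) : List ℕ := bif Nat.blt j 36 then [nat_lit 0, nat_lit 3, nat_lit 0, nat_lit 3, nat_lit 0, nat_lit 3, nat_lit 0, nat_lit 3, nat_lit 0, nat_lit 3, nat_lit 0, nat_lit 3] else [nat_lit 3, nat_lit 4, nat_lit 3, nat_lit 0, nat_lit 4, nat_lit 1, nat_lit 0, nat_lit 3, nat_lit 4, nat_lit 2, nat_lit 3, nat_lit 4]
def Wt_38_40 (j : ℕ) : List ℕ := bif Nat.blt j 39 then [nat_lit 2, nat_lit 3, nat_lit 4, nat_lit 3, nat_lit 4, nat_lit 3, nat_lit 0, nat_lit 4, nat_lit 1, nat_lit 0, nat_lit 3, nat_lit 4] else [nat_lit 0, nat_lit 4, nat_lit 1, nat_lit 0, nat_lit 3, nat_lit 4, nat_lit 2, nat_lit 3, nat_lit 4, nat_lit 3, nat_lit 4, nat_lit 3]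
def Wt_37_40 (j : ℕ) : List ℕ := bif Nat.blt j 38 then [nat_lit 2, nat_lit 4, nat_lit 3, nat_lit 0, nat_lit 1, nat_lit 4, nat_lit 0, nat_lit 3, nat_lit 4, nat_lit 3, nat_lit 4, nat_lit 3] else (Wt_38_40 j)
def Wt_35_40 (j : ℕ) : List ℕ := bif Nat.blt j 37 then (Wt_35_37 j) else (Wt_37_40 j)
def Wt_30_40 (j : ℕ) : List ℕ := bif Nat.blt j 35 then (Wt_30_35 j) else (Wt_35_40 j)
def Wt_20_40 (j : ℕ) : List ℕ := bif Nat.blt j 30 then (Wt_20_30 j) else (Wt_30_40 j)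
def Wt_0_40 (j : ℕ) : List ℕ := bif Nat.blt j 20 then (Wt_0_20 j) else (Wt_20_40 j)
def Wt_40_42 (j : ℕ) : List ℕ := bif Nat.blt j 41 then [nat_lit 1, nat_lit 0, nat_lit 2, nat_lit 3, nat_lit 0, nat_lit 3, nat_lit 2, nat_lit 0, nat_lit 1, nat_lit 3] else [nat_lit 2, nat_lit 4, nat_lit 1, nat_lit 0, nat_lit 2, nat_lit 4, nat_lit 1, nat_lit 0, nat_lit 2, nat_lit 4, nat_lit 1, nat_lit 0]
def Wt_43_45 (j : ℕ) : List ℕ := bif Nat.blt j 44 then [nat_lit 3, nat_lit 4, nat_lit 3, nat_lit 4, nat_lit 3, nat_lit 4, nat_lit 3, nat_lit 4, nat_lit 3, nat_lit 4] else [nat_lit 1, nat_lit 0, nat_lit 3, nat_lit 4, nat_lit 2, nat_lit 3, nat_lit 4, nat_lit 3, nat_lit 4, nat_lit 3, nat_lit 0, nat_lit 4]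
def Wt_42_45 (j : ℕ) : List ℕ := bif Nat.blt j 43 then [nat_lit 4, nat_lit 3, nat_lit 4, nat_lit 3, nat_lit 0, nat_lit 4, nat_lit 1, nat_lit 0, nat_lit 3, nat_lit 4, nat_lit 2, nat_lit 3] else (Wt_43_45 j)
def Wt_40_45 (j : ℕ) : List ℕ := bif Nat.blt j 42 then (Wt_40_42 j) else (Wt_42_45 j)
def Wt_45_47 (j : ℕ) : List ℕ := bif Nat.blt j 46 then [nat_lit 2, nat_lit 0, nat_lit 2, nat_lit 4, nat_lit 1, nat_lit 4, nat_lit 1, nat_lit 2, nat_lit 1, nat_lit 0, nat_lit 4, nat_lit 1, nat_lit 4] else [nat_lit 1, nat_lit 3, nat_lit 2, nat_lit 4, nat_lit 2, nat_lit 4, nat_lit 1, nat_lit 2, nat_lit 3, nat_lit 4, nat_lit 2, nat_lit 4]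
def Wt_48_50 (j : ℕ) : List ℕ := bif Nat.blt j 49 then [nat_lit 1, nat_lit 4, nat_lit 2, nat_lit 0, nat_lit 1, nat_lit 4, nat_lit 2, nat_lit 0, nat_lit 1, nat_lit 4, nat_lit 2, nat_lit 0] else [nat_lit 0, nat_lit 2, nat_lit 4, nat_lit 1, nat_lit 4, nat_lit 1, nat_lit 2, nat_lit 1, nat_lit 0, nat_lit 4, nat_lit 1, nat_lit 4, nat_lit 2]
def Wt_47_50 (j : ℕ) : List ℕ := bif Nat.blt j 48 then [nat_lit 1, nat_lit 4, nat_lit 2, nat_lit 4, nat_lit 3, nat_lit 2, nat_lit 1, nat_lit 4, nat_lit 2, nat_lit 4, nat_lit 2, nat_lit 3] else (Wt_48_50 j)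
def Wt_45_50 (j : ℕ) : List ℕ := bif Nat.blt j 47 then (Wt_45_47 j) else (Wt_47_50 j)
def Wt_40_50 (j : ℕ) : List ℕ := bif Nat.blt j 45 then (Wt_40_45 j) else (Wt_45_50 j)
def Wt_50_52 (j : ℕ) : List ℕ := bif Nat.blt j 51 then [nat_lit 3, nat_lit 1, nat_lit 4, nat_lit 2, nat_lit 4, nat_lit 3, nat_lit 2, nat_lit 1, nat_lit 4, nat_lit 2, nat_lit 4, nat_lit 2] else [nat_lit 0, nat_lit 2, nat_lit 0, nat_lit 2, nat_lit 0, nat_lit 2, nat_lit 0, nat_lit 2, nat_lit 0, nat_lit 2]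
def Wt_53_55 (j : ℕ) : List ℕ := bif Nat.blt j 54 then [nat_lit 3, nat_lit 2, nat_lit 1, nat_lit 4, nat_lit 2, nat_lit 4, nat_lit 2, nat_lit 3, nat_lit 1, nat_lit 4, nat_lit 2, nat_lit 4] else [nat_lit 4, nat_lit 0, nat_lit 3, nat_lit 4, nat_lit 3, nat_lit 4, nat_lit 3, nat_lit 2, nat_lit 4, nat_lit 3, nat_lit 0, nat_lit 1]
def Wt_52_55 (j : ℕ) : List ℕ := bif Nat.blt j 53 then [nat_lit 2, nat_lit 3, nat_lit 1, nat_lit 4, nat_lit 2, nat_lit 4, nat_lit 3, nat_lit 2, nat_lit 1, nat_lit 4, nat_lit 2, nat_lit 4] else (Wt_53_55 j)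
def Wt_50_55 (j : ℕ) : List ℕ := bif Nat.blt j 52 then (Wt_50_52 j) else (Wt_52_55 j)
def Wt_55_57 (j : ℕ) : List ℕ := bif Nat.blt j 56 then [nat_lit 2, nat_lit 4, nat_lit 1, nat_lit 3, nat_lit 2, nat_lit 4, nat_lit 2, nat_lit 4, nat_lit 1, nat_lit 2, nat_lit 3, nat_lit 4] else [nat_lit 2, nat_lit 1, nat_lit 4, nat_lit 1, nat_lit 4, nat_lit 2, nat_lit 0, nat_lit 2, nat_lit 4, nat_lit 1, nat_lit 4, nat_lit 0, nat_lit 1]
def Wt_58_60 (j : ℕ) : List ℕ := bif Nat.blt j 59 then [nat_lit 2, nat_lit 4, nat_lit 1, nat_lit 4, nat_lit 1, nat_lit 2, nat_lit 1, nat_lit 0, nat_lit 4, nat_lit 1, nat_lit 4, nat_lit 2, nat_lit 0] else [nat_lit 2, nat_lit 4, nat_lit 2, nat_lit 3, nat_lit 1, nat_lit 4, nat_lit 2, nat_lit 4, nat_lit 3, nat_lit 2, nat_lit 1, nat_lit 4]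
def Wt_57_60 (j : ℕ) : List ℕ := bif Nat.blt j 58 then [nat_lit 1, nat_lit 0, nat_lit 4, nat_lit 1, nat_lit 4, nat_lit 2, nat_lit 0, nat_lit 2, nat_lit 4, nat_lit 1, nat_lit 4, nat_lit 1, nat_lit 2] else (Wt_58_60 j)
def Wt_55_60 (j : ℕ) : List ℕ := bif Nat.blt j 57 then (Wt_55_57 j) else (Wt_57_60 j)
def Wt_50_60 (j : ℕ) : List ℕ := bif Nat.blt j 55 then (Wt_50_55 j) else (Wt_55_60 j)
def Wt_40_60 (j : ℕ) : List ℕ := bif Nat.blt j 50 then (Wt_40_50 j) else (Wt_50_60 j)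
def Wt_60_62 (j : ℕ) : List ℕ := bif Nat.blt j 61 then [nat_lit 0, nat_lit 3, nat_lit 4, nat_lit 3, nat_lit 4, nat_lit 3, nat_lit 2, nat_lit 4, nat_lit 3, nat_lit 0, nat_lit 1, nat_lit 4] else [nat_lit 4, nat_lit 1, nat_lit 0, nat_lit 3, nat_lit 4, nat_lit 2, nat_lit 3, nat_lit 4, nat_lit 3, nat_lit 4, nat_lit 3, nat_lit 0]
def Wt_63_65 (j : ℕ) : List ℕ := bif Nat.blt j 64 then [nat_lit 1, nat_lit 0, nat_lit 2, nat_lit 0, nat_lit 1, nat_lit 0, nat_lit 2, nat_lit 0, nat_lit 2, nat_lit 1, nat_lit 0] else [nat_lit 63, nat_lit 0, nat_lit 1, nat_lit 0, nat_lit 2, nat_lit 0, nat_lit 1, nat_lit 0, nat_lit 1, nat_lit 2, nat_lit 0, nat_lit 2]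
def Wt_62_65 (j : ℕ) : List ℕ := bif Nat.blt j 63 then [nat_lit 0, nat_lit 2, nat_lit 0, nat_lit 1, nat_lit 0, nat_lit 2, nat_lit 0, nat_lit 1, nat_lit 0, nat_lit 1, nat_lit 2] else (Wt_63_65 j)
def Wt_60_65 (j : ℕ) : List ℕ := bif Nat.blt j 62 then (Wt_60_62 j) else (Wt_62_65 j)
def Wt_65_67 (j : ℕ) : List ℕ := bif Nat.blt j 66 then [nat_lit 63, nat_lit 1, nat_lit 63, nat_lit 1] else [nat_lit 2, nat_lit 1, nat_lit 0, nat_lit 1, nat_lit 0, nat_lit 2, nat_lit 0, nat_lit 1, nat_lit 0, nat_lit 2, nat_lit 0]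
def Wt_68_70 (j : ℕ) : List ℕ := bif Nat.blt j 69 then [nat_lit 2, nat_lit 0, nat_lit 1, nat_lit 0, nat_lit 2, nat_lit 0, nat_lit 2, nat_lit 1, nat_lit 0, nat_lit 1, nat_lit 0] else [nat_lit 63, nat_lit 0, nat_lit 2, nat_lit 0, nat_lit 1, nat_lit 0, nat_lit 2, nat_lit 0, nat_lit 1, nat_lit 0, nat_lit 1, nat_lit 2]
def Wt_67_70 (j : ℕ) : List ℕ := bif Nat.blt j 68 then [nat_lit 4, nat_lit 3, nat_lit 4, nat_lit 3, nat_lit 2, nat_lit 4, nat_lit 3, nat_lit 0, nat_lit 1, nat_lit 4, nat_lit 0, nat_lit 3] else (Wt_68_70 j)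
def Wt_65_70 (j : ℕ) : List ℕ := bif Nat.blt j 67 then (Wt_65_67 j) else (Wt_67_70 j)
def Wt_60_70 (j : ℕ) : List ℕ := bif Nat.blt j 65 then (Wt_60_65 j) else (Wt_65_70 j)
def Wt_70_72 (j : ℕ) : List ℕ := bif Nat.blt j 71 then [nat_lit 4, nat_lit 2, nat_lit 3, nat_lit 4, nat_lit 3, nat_lit 4, nat_lit 3, nat_lit 0, nat_lit 4, nat_lit 1, nat_lit 0, nat_lit 3] else [nat_lit 3, nat_lit 0, nat_lit 4, nat_lit 1, nat_lit 0, nat_lit 3, nat_lit 4, nat_lit 2, nat_lit 3, nat_lit 4, nat_lit 3, nat_lit 4]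
def Wt_73_75 (j : ℕ) : List ℕ := bif Nat.blt j 74 then [nat_lit 1, nat_lit 4, nat_lit 0, nat_lit 3, nat_lit 4, nat_lit 3, nat_lit 4, nat_lit 3, nat_lit 2, nat_lit 4, nat_lit 3, nat_lit 0] else [nat_lit 3, nat_lit 0, nat_lit 1, nat_lit 4, nat_lit 0, nat_lit 3, nat_lit 4, nat_lit 3, nat_lit 4, nat_lit 3, nat_lit 2, nat_lit 4]
def Wt_72_75 (j : ℕ) : List ℕ := bif Nat.blt j 73 then [nat_lit 3, nat_lit 4, nat_lit 2, nat_lit 3, nat_lit 4, nat_lit 3, nat_lit 4, nat_lit 3, nat_lit 0, nat_lit 4, nat_lit 1, nat_lit 0] else (Wt_73_75 j)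
def Wt_70_75 (j : ℕ) : List ℕ := bif Nat.blt j 72 then (Wt_70_72 j) else (Wt_72_75 j)
def Wt_75_77 (j : ℕ) : List ℕ := bif Nat.blt j 76 then [nat_lit 1, nat_lit 4, nat_lit 2, nat_lit 0, nat_lit 2, nat_lit 4, nat_lit 1, nat_lit 4, nat_lit 0, nat_lit 1, nat_lit 2, nat_lit 1, nat_lit 4] else [nat_lit 63, nat_lit 1, nat_lit 2, nat_lit 1, nat_lit 4, nat_lit 1, nat_lit 4, nat_lit 2, nat_lit 0, nat_lit 2, nat_lit 4, nat_lit 1, nat_lit 4, nat_lit 0]
def Wt_78_80 (j : ℕ) : List ℕ := bif Nat.blt j 79 then [nat_lit 1, nat_lit 4, nat_lit 1, nat_lit 4, nat_lit 2, nat_lit 0, nat_lit 2, nat_lit 4, nat_lit 1, nat_lit 4, nat_lit 0, nat_lit 1, nat_lit 2] else [nat_lit 0, nat_lit 4, nat_lit 1, nat_lit 4, nat_lit 2, nat_lit 0, nat_lit 2, nat_lit 4, nat_lit 1, nat_lit 4, nat_lit 1, nat_lit 2, nat_lit 1]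
def Wt_77_80 (j : ℕ) : List ℕ := bif Nat.blt j 78 then [nat_lit 63, nat_lit 0, nat_lit 2, nat_lit 0, nat_lit 1, nat_lit 0, nat_lit 1, nat_lit 2, nat_lit 0, nat_lit 2, nat_lit 0, nat_lit 1] else (Wt_78_80 j)
def Wt_75_80 (j : ℕ) : List ℕ := bif Nat.blt j 77 then (Wt_75_77 j) else (Wt_77_80 j)
def Wt_70_80 (j : ℕ) : List ℕ := bif Nat.blt j 75 then (Wt_70_75 j) else (Wt_75_80 j)
def Wt_60_80 (j : ℕ) : List ℕ := bif Nat.blt j 70 then (Wt_60_70 j) else (Wt_70_80 j)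
def Wt_40_80 (j : ℕ) : List ℕ := bif Nat.blt j 60 then (Wt_40_60 j) else (Wt_60_80 j)
def Wt_0_80 (j : ℕ) : List ℕ := bif Nat.blt j 40 then (Wt_0_40 j) else (Wt_40_80 j)
def Wt_80_82 (j : ℕ) : List ℕ := bif Nat.blt j 81 then [nat_lit 4, nat_lit 1, nat_lit 4, nat_lit 1, nat_lit 2, nat_lit 1, nat_lit 0, nat_lit 4, nat_lit 1, nat_lit 4, nat_lit 2, nat_lit 0, nat_lit 2] else [nat_lit 4, nat_lit 1, nat_lit 2, nat_lit 1, nat_lit 0, nat_lit 4, nat_lit 1, nat_lit 4, nat_lit 2, nat_lit 0, nat_lit 2, nat_lit 4, nat_lit 1]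
def Wt_83_85 (j : ℕ) : List ℕ := bif Nat.blt j 84 then [nat_lit 0, nat_lit 1, nat_lit 4, nat_lit 0, nat_lit 3, nat_lit 4, nat_lit 3, nat_lit 4, nat_lit 3, nat_lit 2, nat_lit 4, nat_lit 3] else [nat_lit 3, nat_lit 4, nat_lit 2, nat_lit 4, nat_lit 1, nat_lit 3, nat_lit 2, nat_lit 4, nat_lit 2, nat_lit 4, nat_lit 1, nat_lit 2]
def Wt_82_85 (j : ℕ) : List ℕ := bif Nat.blt j 83 then [nat_lit 63, nat_lit 0, nat_lit 1, nat_lit 2, nat_lit 1, nat_lit 4, nat_lit 1, nat_lit 4, nat_lit 2, nat_lit 0, nat_lit 2, nat_lit 4, nat_lit 1, nat_lit 4] else (Wt_83_85 j)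
def Wt_80_85 (j : ℕ) : List ℕ := bif Nat.blt j 82 then (Wt_80_82 j) else (Wt_82_85 j)
def Wt_85_87 (j : ℕ) : List ℕ := bif Nat.blt j 86 then [nat_lit 63, nat_lit 3, nat_lit 63, nat_lit 3] else [nat_lit 0, nat_lit 1, nat_lit 3, nat_lit 1, nat_lit 0, nat_lit 2, nat_lit 3, nat_lit 0, nat_lit 3, nat_lit 2]
def Wt_88_90 (j : ℕ) : List ℕ := bif Nat.blt j 89 then [nat_lit 1, nat_lit 2, nat_lit 0, nat_lit 2, nat_lit 0, nat_lit 1, nat_lit 0, nat_lit 2, nat_lit 0, nat_lit 1, nat_lit 0] else [nat_lit 3, nat_lit 0, nat_lit 3, nat_lit 2, nat_lit 0, nat_lit 1, nat_lit 3, nat_lit 1, nat_lit 0, nat_lit 2]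
def Wt_87_90 (j : ℕ) : List ℕ := bif Nat.blt j 88 then [nat_lit 4, nat_lit 3, nat_lit 0, nat_lit 1, nat_lit 4, nat_lit 0, nat_lit 3, nat_lit 4, nat_lit 3, nat_lit 4, nat_lit 3, nat_lit 2] else (Wt_88_90 j)
def Wt_85_90 (j : ℕ) : List ℕ := bif Nat.blt j 87 then (Wt_85_87 j) else (Wt_87_90 j)
def Wt_80_90 (j : ℕ) : List ℕ := bif Nat.blt j 85 then (Wt_80_85 j) else (Wt_85_90 j)
def Wt_90_92 (j : ℕ) : List ℕ := bif Nat.blt j 91 then [nat_lit 2, nat_lit 0, nat_lit 2, nat_lit 1, nat_lit 0, nat_lit 1, nat_lit 0, nat_lit 2, nat_lit 0, nat_lit 1, nat_lit 0] else [nat_lit 63, nat_lit 0, nat_lit 1, nat_lit 2, nat_lit 0, nat_lit 2, nat_lit 0, nat_lit 1, nat_lit 0, nat_lit 2, nat_lit 0, nat_lit 1]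
def Wt_93_95 (j : ℕ) : List ℕ := bif Nat.blt j 94 then [nat_lit 1, nat_lit 0, nat_lit 2, nat_lit 4, nat_lit 1, nat_lit 0, nat_lit 2, nat_lit 4, nat_lit 1, nat_lit 0, nat_lit 2, nat_lit 4] else [nat_lit 1, nat_lit 0, nat_lit 1, nat_lit 2, nat_lit 0, nat_lit 2, nat_lit 0, nat_lit 1, nat_lit 0, nat_lit 2, nat_lit 0]
def Wt_92_95 (j : ℕ) : List ℕ := bif Nat.blt j 93 then [nat_lit 0, nat_lit 1, nat_lit 0, nat_lit 2, nat_lit 0, nat_lit 1, nat_lit 0, nat_lit 2, nat_lit 0, nat_lit 2, nat_lit 1] else (Wt_93_95 j)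
def Wt_90_95 (j : ℕ) : List ℕ := bif Nat.blt j 92 then (Wt_90_92 j) else (Wt_92_95 j)
def Wt_95_97 (j : ℕ) : List ℕ := bif Nat.blt j 96 then [nat_lit 63, nat_lit 2, nat_lit 0, nat_lit 1, nat_lit 0, nat_lit 2, nat_lit 0, nat_lit 1, nat_lit 0, nat_lit 1, nat_lit 2, nat_lit 0] else [nat_lit 63, nat_lit 1, nat_lit 0, nat_lit 2, nat_lit 0, nat_lit 1, nat_lit 0, nat_lit 2, nat_lit 0, nat_lit 2, nat_lit 1, nat_lit 0]
def Wt_98_100 (j : ℕ) : List ℕ := bif Nat.blt j 99 then [nat_lit 63, nat_lit 1, nat_lit 2, nat_lit 0, nat_lit 2, nat_lit 0, nat_lit 1, nat_lit 0, nat_lit 2, nat_lit 0, nat_lit 1, nat_lit 0] else [nat_lit 63, nat_lit 3, nat_lit 1, nat_lit 0, nat_lit 2, nat_lit 3, nat_lit 0, nat_lit 3, nat_lit 2, nat_lit 0, nat_lit 1]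
def Wt_97_100 (j : ℕ) : List ℕ := bif Nat.blt j 98 then [nat_lit 0, nat_lit 2, nat_lit 1, nat_lit 0, nat_lit 1, nat_lit 0, nat_lit 2, nat_lit 0, nat_lit 1, nat_lit 0, nat_lit 2] else (Wt_98_100 j)
def Wt_95_100 (j : ℕ) : List ℕ := bif Nat.blt j 97 then (Wt_95_97 j) else (Wt_97_100 j)
def Wt_90_100 (j : ℕ) : List ℕ := bif Nat.blt j 95 then (Wt_90_95 j) else (Wt_95_100 j)
def Wt_80_100 (j : ℕ) : List ℕ := bif Nat.blt j 90 then (Wt_80_90 j) else (Wt_90_100 j)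
def Wt_100_102 (j : ℕ) : List ℕ := bif Nat.blt j 101 then [nat_lit 63, nat_lit 0, nat_lit 3, nat_lit 2, nat_lit 0, nat_lit 1, nat_lit 3, nat_lit 1, nat_lit 0, nat_lit 2, nat_lit 3] else [nat_lit 2, nat_lit 0, nat_lit 1, nat_lit 0, nat_lit 1, nat_lit 2, nat_lit 0, nat_lit 2, nat_lit 0, nat_lit 1, nat_lit 0]
def Wt_103_105 (j : ℕ) : List ℕ := bif Nat.blt j 104 then [nat_lit 0, nat_lit 2, nat_lit 0, nat_lit 1, nat_lit 0, nat_lit 2, nat_lit 0, nat_lit 2, nat_lit 1, nat_lit 0, nat_lit 1] else [nat_lit 0, nat_lit 1, nat_lit 0, nat_lit 1, nat_lit 2, nat_lit 0, nat_lit 2, nat_lit 0, nat_lit 1, nat_lit 0, nat_lit 2]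
def Wt_102_105 (j : ℕ) : List ℕ := bif Nat.blt j 103 then [nat_lit 63, nat_lit 1, nat_lit 0, nat_lit 2, nat_lit 0, nat_lit 1, nat_lit 0, nat_lit 1, nat_lit 2, nat_lit 0, nat_lit 2, nat_lit 0] else (Wt_103_105 j)
def Wt_100_105 (j : ℕ) : List ℕ := bif Nat.blt j 102 then (Wt_100_102 j) else (Wt_102_105 j)
def Wt_105_107 (j : ℕ) : List ℕ := bif Nat.blt j 106 then [nat_lit 63, nat_lit 0, nat_lit 2, nat_lit 0, nat_lit 2, nat_lit 0, nat_lit 2, nat_lit 0, nat_lit 2, nat_lit 0, nat_lit 2] else [nat_lit 4, nat_lit 3, nat_lit 2, nat_lit 4, nat_lit 3, nat_lit 0, nat_lit 1, nat_lit 4, nat_lit 0, nat_lit 3, nat_lit 4, nat_lit 3]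
def Wt_108_110 (j : ℕ) : List ℕ := bif Nat.blt j 109 then [nat_lit 3, nat_lit 0, nat_lit 3, nat_lit 0, nat_lit 3, nat_lit 0, nat_lit 3, nat_lit 0, nat_lit 3, nat_lit 0, nat_lit 3, nat_lit 0] else [nat_lit 1, nat_lit 2, nat_lit 1, nat_lit 4, nat_lit 1, nat_lit 4, nat_lit 2, nat_lit 0, nat_lit 2, nat_lit 4, nat_lit 1, nat_lit 4, nat_lit 0]
def Wt_107_110 (j : ℕ) : List ℕ := bif Nat.blt j 108 then [nat_lit 2, nat_lit 0, nat_lit 1, nat_lit 4, nat_lit 2, nat_lit 0, nat_lit 1, nat_lit 4, nat_lit 2, nat_lit 0, nat_lit 1, nat_lit 4] else (Wt_108_110 j)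
def Wt_105_110 (j : ℕ) : List ℕ := bif Nat.blt j 107 then (Wt_105_107 j) else (Wt_107_110 j)
def Wt_100_110 (j : ℕ) : List ℕ := bif Nat.blt j 105 then (Wt_100_105 j) else (Wt_105_110 j)
def Wt_110_112 (j : ℕ) : List ℕ := bif Nat.blt j 111 then [nat_lit 2, nat_lit 1, nat_lit 0, nat_lit 4, nat_lit 1, nat_lit 4, nat_lit 2, nat_lit 0, nat_lit 2, nat_lit 4, nat_lit 1, nat_lit 4, nat_lit 1] else [nat_lit 4, nat_lit 3, nat_lit 0, nat_lit 4, nat_lit 1, nat_lit 0, nat_lit 3, nat_lit 4, nat_lit 2, nat_lit 3, nat_lit 4, nat_lit 3]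
def Wt_113_115 (j : ℕ) : List ℕ := bif Nat.blt j 114 then [nat_lit 0, nat_lit 1, nat_lit 4, nat_lit 2, nat_lit 0, nat_lit 1, nat_lit 4, nat_lit 2, nat_lit 0, nat_lit 1, nat_lit 4, nat_lit 2] else [nat_lit 4, nat_lit 2, nat_lit 3, nat_lit 1, nat_lit 4, nat_lit 2, nat_lit 4, nat_lit 3, nat_lit 2, nat_lit 1, nat_lit 4, nat_lit 2]
def Wt_112_115 (j : ℕ) : List ℕ := bif Nat.blt j 113 then [nat_lit 3, nat_lit 4, nat_lit 3, nat_lit 4, nat_lit 3, nat_lit 2, nat_lit 4, nat_lit 3, nat_lit 0, nat_lit 1, nat_lit 4, nat_lit 0] else (Wt_113_115 j)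
def Wt_110_115 (j : ℕ) : List ℕ := bif Nat.blt j 112 then (Wt_110_112 j) else (Wt_112_115 j)
def Wt_115_117 (j : ℕ) : List ℕ := bif Nat.blt j 116 then [nat_lit 4, nat_lit 2, nat_lit 4, nat_lit 1, nat_lit 3, nat_lit 2, nat_lit 4, nat_lit 2, nat_lit 4, nat_lit 1, nat_lit 2, nat_lit 3] else [nat_lit 0, nat_lit 2, nat_lit 4, nat_lit 1, nat_lit 0, nat_lit 2, nat_lit 4, nat_lit 1, nat_lit 0, nat_lit 2, nat_lit 4, nat_lit 1]
def Wt_118_120 (j : ℕ) : List ℕ := bif Nat.blt j 119 then [nat_lit 3, nat_lit 3, nat_lit 63] else [nat_lit 63, nat_lit 0, nat_lit 1, nat_lit 0, nat_lit 1, nat_lit 0, nat_lit 1, nat_lit 0, nat_lit 1, nat_lit 0, nat_lit 1]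
def Wt_117_120 (j : ℕ) : List ℕ := bif Nat.blt j 118 then [nat_lit 63, nat_lit 2, nat_lit 0, nat_lit 1, nat_lit 3, nat_lit 1, nat_lit 0, nat_lit 2, nat_lit 3, nat_lit 0, nat_lit 3] else (Wt_118_120 j)
def Wt_115_120 (j : ℕ) : List ℕ := bif Nat.blt j 117 then (Wt_115_117 j) else (Wt_117_120 j)
def Wt_110_120 (j : ℕ) : List ℕ := bif Nat.blt j 115 then (Wt_110_115 j) else (Wt_115_120 j)
def Wt_100_120 (j : ℕ) : List ℕ := bif Nat.blt j 110 then (Wt_100_110 j) else (Wt_110_120 j)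
def Wt_80_120 (j : ℕ) : List ℕ := bif Nat.blt j 100 then (Wt_80_100 j) else (Wt_100_120 j)
def Wt_120_122 (j : ℕ) : List ℕ := bif Nat.blt j 121 then [nat_lit 63, nat_lit 2, nat_lit 1, nat_lit 0, nat_lit 4, nat_lit 1, nat_lit 4, nat_lit 2, nat_lit 0, nat_lit 2, nat_lit 4, nat_lit 1, nat_lit 4, nat_lit 1] else [nat_lit 0, nat_lit 3, nat_lit 2, nat_lit 0, nat_lit 1, nat_lit 3, nat_lit 1, nat_lit 0, nat_lit 2, nat_lit 3]
def Wt_123_125 (j : ℕ) : List ℕ := bif Nat.blt j 124 then [nat_lit 63, nat_lit 0, nat_lit 1, nat_lit 0, nat_lit 2, nat_lit 0, nat_lit 2, nat_lit 1, nat_lit 0, nat_lit 1, nat_lit 0, nat_lit 2] else [nat_lit 63, nat_lit 0, nat_lit 1, nat_lit 3, nat_lit 1, nat_lit 0, nat_lit 2, nat_lit 3, nat_lit 0, nat_lit 3, nat_lit 2]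
def Wt_122_125 (j : ℕ) : List ℕ := bif Nat.blt j 123 then [nat_lit 63, nat_lit 4, nat_lit 1, nat_lit 0, nat_lit 3, nat_lit 4, nat_lit 2, nat_lit 3, nat_lit 4, nat_lit 3, nat_lit 4, nat_lit 3, nat_lit 0] else (Wt_123_125 j)
def Wt_120_125 (j : ℕ) : List ℕ := bif Nat.blt j 122 then (Wt_120_122 j) else (Wt_122_125 j)
def Wt_125_127 (j : ℕ) : List ℕ := bif Nat.blt j 126 then [nat_lit 0, nat_lit 1, nat_lit 2, nat_lit 0, nat_lit 2, nat_lit 0, nat_lit 1, nat_lit 0, nat_lit 2, nat_lit 0, nat_lit 1] else [nat_lit 63, nat_lit 2, nat_lit 0, nat_lit 1, nat_lit 0, nat_lit 1, nat_lit 2, nat_lit 0, nat_lit 2, nat_lit 0, nat_lit 1, nat_lit 0]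
def Wt_128_130 (j : ℕ) : List ℕ := bif Nat.blt j 129 then [nat_lit 63, nat_lit 1, nat_lit 0, nat_lit 2, nat_lit 3, nat_lit 0, nat_lit 3, nat_lit 2, nat_lit 0, nat_lit 1, nat_lit 3] else [nat_lit 63, nat_lit 4, nat_lit 63, nat_lit 4]
def Wt_127_130 (j : ℕ) : List ℕ := bif Nat.blt j 128 then [nat_lit 63, nat_lit 3, nat_lit 0, nat_lit 3, nat_lit 2, nat_lit 0, nat_lit 1, nat_lit 3, nat_lit 1, nat_lit 0, nat_lit 2] else (Wt_128_130 j)
def Wt_125_130 (j : ℕ) : List ℕ := bif Nat.blt j 127 then (Wt_125_127 j) else (Wt_127_130 j)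
def Wt_120_130 (j : ℕ) : List ℕ := bif Nat.blt j 125 then (Wt_120_125 j) else (Wt_125_130 j)
def Wt_130_132 (j : ℕ) : List ℕ := bif Nat.blt j 131 then [nat_lit 4, nat_lit 4, nat_lit 63] else [nat_lit 63, nat_lit 2, nat_lit 63, nat_lit 2, nat_lit 63]
def Wt_133_135 (j : ℕ) : List ℕ := bif Nat.blt j 134 then [nat_lit 63, nat_lit 63, nat_lit 63] else [nat_lit 63, nat_lit 2, nat_lit 0, nat_lit 2, nat_lit 0, nat_lit 2, nat_lit 0, nat_lit 2, nat_lit 0, nat_lit 2, nat_lit 0]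
def Wt_132_135 (j : ℕ) : List ℕ := bif Nat.blt j 133 then [nat_lit 63, nat_lit 63, nat_lit 3, nat_lit 63, nat_lit 3] else (Wt_133_135 j)
def Wt_130_135 (j : ℕ) : List ℕ := bif Nat.blt j 132 then (Wt_130_132 j) else (Wt_132_135 j)
def Wt_135_137 (j : ℕ) : List ℕ := bif Nat.blt j 136 then [nat_lit 63, nat_lit 3, nat_lit 2, nat_lit 0, nat_lit 1, nat_lit 3, nat_lit 1, nat_lit 0, nat_lit 2, nat_lit 3, nat_lit 0] else [nat_lit 63, nat_lit 2, nat_lit 3, nat_lit 2, nat_lit 3]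
def Wt_138_140 (j : ℕ) : List ℕ := bif Nat.blt j 139 then [nat_lit 63, nat_lit 1, nat_lit 0, nat_lit 2, nat_lit 0, nat_lit 2, nat_lit 1, nat_lit 0, nat_lit 1, nat_lit 0, nat_lit 2, nat_lit 0] else [nat_lit 0, nat_lit 1, nat_lit 0, nat_lit 2, nat_lit 0, nat_lit 1, nat_lit 0, nat_lit 1, nat_lit 2, nat_lit 0, nat_lit 2]
def Wt_137_140 (j : ℕ) : List ℕ := bif Nat.blt j 138 then [nat_lit 63, nat_lit 0, nat_lit 3, nat_lit 0, nat_lit 3, nat_lit 0, nat_lit 3, nat_lit 0, nat_lit 3, nat_lit 0, nat_lit 3, nat_lit 0, nat_lit 3] else (Wt_138_140 j)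
def Wt_135_140 (j : ℕ) : List ℕ := bif Nat.blt j 137 then (Wt_135_137 j) else (Wt_137_140 j)
def Wt_130_140 (j : ℕ) : List ℕ := bif Nat.blt j 135 then (Wt_130_135 j) else (Wt_135_140 j)
def Wt_120_140 (j : ℕ) : List ℕ := bif Nat.blt j 130 then (Wt_120_130 j) else (Wt_130_140 j)
def Wt_140_142 (j : ℕ) : List ℕ := bif Nat.blt j 141 then [nat_lit 63, nat_lit 1, nat_lit 0, nat_lit 1, nat_lit 0, nat_lit 2, nat_lit 0, nat_lit 1, nat_lit 0, nat_lit 2, nat_lit 0, nat_lit 2] else [nat_lit 63, nat_lit 3, nat_lit 0, nat_lit 3, nat_lit 0, nat_lit 3, nat_lit 0, nat_lit 3, nat_lit 0, nat_lit 3, nat_lit 0, nat_lit 3, nat_lit 0]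
def Wt_143_145 (j : ℕ) : List ℕ := bif Nat.blt j 144 then [nat_lit 63, nat_lit 3, nat_lit 2, nat_lit 3, nat_lit 2] else [nat_lit 63, nat_lit 1, nat_lit 3, nat_lit 1, nat_lit 0, nat_lit 2, nat_lit 3, nat_lit 0, nat_lit 3, nat_lit 2, nat_lit 0]
def Wt_142_145 (j : ℕ) : List ℕ := bif Nat.blt j 143 then [nat_lit 63, nat_lit 0, nat_lit 2, nat_lit 0, nat_lit 2, nat_lit 1, nat_lit 0, nat_lit 1, nat_lit 0, nat_lit 2, nat_lit 0, nat_lit 1] else (Wt_143_145 j)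
def Wt_140_145 (j : ℕ) : List ℕ := bif Nat.blt j 142 then (Wt_140_142 j) else (Wt_142_145 j)
def Wt_145_147 (j : ℕ) : List ℕ := bif Nat.blt j 146 then [nat_lit 63, nat_lit 2, nat_lit 3, nat_lit 0, nat_lit 3, nat_lit 2, nat_lit 0, nat_lit 1, nat_lit 3, nat_lit 1, nat_lit 0] else [nat_lit 1, nat_lit 0, nat_lit 2, nat_lit 0, nat_lit 1, nat_lit 0, nat_lit 1, nat_lit 2, nat_lit 0, nat_lit 2, nat_lit 0]
def Wt_148_150 (j : ℕ) : List ℕ := bif Nat.blt j 149 then [nat_lit 63, nat_lit 2, nat_lit 0, nat_lit 1, nat_lit 0, nat_lit 2, nat_lit 0, nat_lit 2, nat_lit 1, nat_lit 0, nat_lit 1, nat_lit 0] else [nat_lit 63, nat_lit 0, nat_lit 2, nat_lit 3, nat_lit 0, nat_lit 3, nat_lit 2, nat_lit 0, nat_lit 1, nat_lit 3, nat_lit 1]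
def Wt_147_150 (j : ℕ) : List ℕ := bif Nat.blt j 148 then [nat_lit 63, nat_lit 0, nat_lit 2, nat_lit 0, nat_lit 1, nat_lit 0, nat_lit 2, nat_lit 0, nat_lit 2, nat_lit 1, nat_lit 0, nat_lit 1] else (Wt_148_150 j)
def Wt_145_150 (j : ℕ) : List ℕ := bif Nat.blt j 147 then (Wt_145_147 j) else (Wt_147_150 j)
def Wt_140_150 (j : ℕ) : List ℕ := bif Nat.blt j 145 then (Wt_140_145 j) else (Wt_145_150 j)
def Wt_150_152 (j : ℕ) : List ℕ := bif Nat.blt j 151 then [nat_lit 63, nat_lit 1, nat_lit 0, nat_lit 1, nat_lit 0, nat_lit 1, nat_lit 0, nat_lit 1, nat_lit 0, nat_lit 1, nat_lit 0] else [nat_lit 63, nat_lit 0, nat_lit 3, nat_lit 4, nat_lit 2, nat_lit 3, nat_lit 4, nat_lit 3, nat_lit 4, nat_lit 3, nat_lit 0, nat_lit 4, nat_lit 1]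
def Wt_153_155 (j : ℕ) : List ℕ := bif Nat.blt j 154 then [nat_lit 63, nat_lit 3, nat_lit 2, nat_lit 4, nat_lit 2, nat_lit 4, nat_lit 1, nat_lit 2, nat_lit 3, nat_lit 4, nat_lit 2, nat_lit 4, nat_lit 1] else [nat_lit 63, nat_lit 0, nat_lit 3, nat_lit 4, nat_lit 3, nat_lit 4, nat_lit 3, nat_lit 2, nat_lit 4, nat_lit 3, nat_lit 0, nat_lit 1, nat_lit 4]
def Wt_152_155 (j : ℕ) : List ℕ := bif Nat.blt j 153 then [nat_lit 63, nat_lit 1, nat_lit 4, nat_lit 0, nat_lit 3, nat_lit 4, nat_lit 3, nat_lit 4, nat_lit 3, nat_lit 2, nat_lit 4, nat_lit 3, nat_lit 0] else (Wt_153_155 j)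
def Wt_150_155 (j : ℕ) : List ℕ := bif Nat.blt j 152 then (Wt_150_152 j) else (Wt_152_155 j)
def Wt_155_157 (j : ℕ) : List ℕ := bif Nat.blt j 156 then [nat_lit 63, nat_lit 3, nat_lit 4, nat_lit 2, nat_lit 4, nat_lit 1, nat_lit 3, nat_lit 2, nat_lit 4, nat_lit 2, nat_lit 4, nat_lit 1, nat_lit 2] else [nat_lit 3, nat_lit 2, nat_lit 4, nat_lit 2, nat_lit 4, nat_lit 1, nat_lit 2, nat_lit 3, nat_lit 4, nat_lit 2, nat_lit 4, nat_lit 1]
def Wt_158_160 (j : ℕ) : List ℕ := bif Nat.blt j 159 then [nat_lit 4, nat_lit 2, nat_lit 4, nat_lit 2, nat_lit 3, nat_lit 1, nat_lit 4, nat_lit 2, nat_lit 4, nat_lit 3, nat_lit 2, nat_lit 1] else [nat_lit 4, nat_lit 1, nat_lit 3, nat_lit 2, nat_lit 4, nat_lit 2, nat_lit 4, nat_lit 1, nat_lit 2, nat_lit 3, nat_lit 4, nat_lit 2]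
def Wt_157_160 (j : ℕ) : List ℕ := bif Nat.blt j 158 then [nat_lit 1, nat_lit 4, nat_lit 2, nat_lit 4, nat_lit 2, nat_lit 3, nat_lit 1, nat_lit 4, nat_lit 2, nat_lit 4, nat_lit 3, nat_lit 2] else (Wt_158_160 j)
def Wt_155_160 (j : ℕ) : List ℕ := bif Nat.blt j 157 then (Wt_155_157 j) else (Wt_157_160 j)
def Wt_150_160 (j : ℕ) : List ℕ := bif Nat.blt j 155 then (Wt_150_155 j) else (Wt_155_160 j)
def Wt_140_160 (j : ℕ) : List ℕ := bif Nat.blt j 150 then (Wt_140_150 j) else (Wt_150_160 j)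
def Wt_120_160 (j : ℕ) : List ℕ := bif Nat.blt j 140 then (Wt_120_140 j) else (Wt_140_160 j)
def Wt_80_160 (j : ℕ) : List ℕ := bif Nat.blt j 120 then (Wt_80_120 j) else (Wt_120_160 j)
def Wt_0_160 (j : ℕ) : List ℕ := bif Nat.blt j 80 then (Wt_0_80 j) else (Wt_80_160 j)
def Wt_160_162 (j : ℕ) : List ℕ := bif Nat.blt j 161 then [nat_lit 0, nat_lit 1, nat_lit 2, nat_lit 1, nat_lit 4, nat_lit 1, nat_lit 4, nat_lit 2, nat_lit 0, nat_lit 2, nat_lit 4, nat_lit 1, nat_lit 4] else [nat_lit 1, nat_lit 2, nat_lit 1, nat_lit 0, nat_lit 4, nat_lit 1, nat_lit 4, nat_lit 2, nat_lit 0, nat_lit 2, nat_lit 4, nat_lit 1, nat_lit 4]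
def Wt_163_165 (j : ℕ) : List ℕ := bif Nat.blt j 164 then [nat_lit 1, nat_lit 4, nat_lit 1, nat_lit 2, nat_lit 1, nat_lit 0, nat_lit 4, nat_lit 1, nat_lit 4, nat_lit 2, nat_lit 0, nat_lit 2, nat_lit 4] else [nat_lit 1, nat_lit 4, nat_lit 0, nat_lit 1, nat_lit 2, nat_lit 1, nat_lit 4, nat_lit 1, nat_lit 4, nat_lit 2, nat_lit 0, nat_lit 2, nat_lit 4]
def Wt_162_165 (j : ℕ) : List ℕ := bif Nat.blt j 163 then [nat_lit 63, nat_lit 3, nat_lit 4, nat_lit 3, nat_lit 4, nat_lit 3, nat_lit 4, nat_lit 3, nat_lit 4, nat_lit 3, nat_lit 4] else (Wt_163_165 j)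
def Wt_160_165 (j : ℕ) : List ℕ := bif Nat.blt j 162 then (Wt_160_162 j) else (Wt_162_165 j)
def Wt_165_167 (j : ℕ) : List ℕ := bif Nat.blt j 166 then [nat_lit 1, nat_lit 4, nat_lit 2, nat_lit 0, nat_lit 2, nat_lit 4, nat_lit 1, nat_lit 4, nat_lit 1, nat_lit 2, nat_lit 1, nat_lit 0, nat_lit 4] else [nat_lit 63, nat_lit 4, nat_lit 0, nat_lit 3, nat_lit 4, nat_lit 3, nat_lit 4, nat_lit 3, nat_lit 2, nat_lit 4, nat_lit 3, nat_lit 0, nat_lit 1]
def Wt_168_170 (j : ℕ) : List ℕ := bif Nat.blt j 169 then [nat_lit 63, nat_lit 2, nat_lit 1, nat_lit 4, nat_lit 1, nat_lit 4, nat_lit 2, nat_lit 0, nat_lit 2, nat_lit 4, nat_lit 1, nat_lit 4, nat_lit 0, nat_lit 1] else [nat_lit 4, nat_lit 2, nat_lit 0, nat_lit 2, nat_lit 4, nat_lit 1, nat_lit 4, nat_lit 1, nat_lit 2, nat_lit 1, nat_lit 0, nat_lit 4, nat_lit 1]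
def Wt_167_170 (j : ℕ) : List ℕ := bif Nat.blt j 168 then [nat_lit 63, nat_lit 3, nat_lit 4, nat_lit 3, nat_lit 4, nat_lit 3, nat_lit 2, nat_lit 4, nat_lit 3, nat_lit 0, nat_lit 1, nat_lit 4, nat_lit 0] else (Wt_168_170 j)
def Wt_165_170 (j : ℕ) : List ℕ := bif Nat.blt j 167 then (Wt_165_167 j) else (Wt_167_170 j)
def Wt_160_170 (j : ℕ) : List ℕ := bif Nat.blt j 165 then (Wt_160_165 j) else (Wt_165_170 j)
def Wt_170_172 (j : ℕ) : List ℕ := bif Nat.blt j 171 then [nat_lit 63, nat_lit 1, nat_lit 4, nat_lit 2, nat_lit 0, nat_lit 2, nat_lit 4, nat_lit 1, nat_lit 4, nat_lit 1, nat_lit 2, nat_lit 1, nat_lit 0, nat_lit 4] else [nat_lit 63, nat_lit 4, nat_lit 3, nat_lit 4, nat_lit 3, nat_lit 4, nat_lit 3, nat_lit 4, nat_lit 3, nat_lit 4, nat_lit 3]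
def Wt_173_175 (j : ℕ) : List ℕ := bif Nat.blt j 174 then [nat_lit 0, nat_lit 2, nat_lit 0, nat_lit 1, nat_lit 0, nat_lit 1, nat_lit 2, nat_lit 0, nat_lit 2, nat_lit 0, nat_lit 1] else [nat_lit 4, nat_lit 0, nat_lit 1, nat_lit 2, nat_lit 1, nat_lit 4, nat_lit 1, nat_lit 4, nat_lit 2, nat_lit 0, nat_lit 2, nat_lit 4, nat_lit 1]
def Wt_172_175 (j : ℕ) : List ℕ := bif Nat.blt j 173 then [nat_lit 4, nat_lit 1, nat_lit 4, nat_lit 2, nat_lit 0, nat_lit 2, nat_lit 4, nat_lit 1, nat_lit 4, nat_lit 0, nat_lit 1, nat_lit 2, nat_lit 1] else (Wt_173_175 j)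
def Wt_170_175 (j : ℕ) : List ℕ := bif Nat.blt j 172 then (Wt_170_172 j) else (Wt_172_175 j)
def Wt_175_177 (j : ℕ) : List ℕ := bif Nat.blt j 176 then [nat_lit 63, nat_lit 4, nat_lit 3, nat_lit 2, nat_lit 4, nat_lit 3, nat_lit 0, nat_lit 1, nat_lit 4, nat_lit 0, nat_lit 3, nat_lit 4, nat_lit 3] else [nat_lit 4, nat_lit 2, nat_lit 0, nat_lit 2, nat_lit 4, nat_lit 1, nat_lit 4, nat_lit 0, nat_lit 1, nat_lit 2, nat_lit 1, nat_lit 4, nat_lit 1]
def Wt_178_180 (j : ℕ) : List ℕ := bif Nat.blt j 179 then [nat_lit 4, nat_lit 1, nat_lit 4, nat_lit 2, nat_lit 0, nat_lit 2, nat_lit 4, nat_lit 1, nat_lit 4, nat_lit 1, nat_lit 2, nat_lit 1, nat_lit 0] else [nat_lit 4, nat_lit 1, nat_lit 4, nat_lit 0, nat_lit 1, nat_lit 2, nat_lit 1, nat_lit 4, nat_lit 1, nat_lit 4, nat_lit 2, nat_lit 0, nat_lit 2]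
def Wt_177_180 (j : ℕ) : List ℕ := bif Nat.blt j 178 then [nat_lit 63, nat_lit 1, nat_lit 4, nat_lit 1, nat_lit 2, nat_lit 1, nat_lit 0, nat_lit 4, nat_lit 1, nat_lit 4, nat_lit 2, nat_lit 0, nat_lit 2, nat_lit 4] else (Wt_178_180 j)
def Wt_175_180 (j : ℕ) : List ℕ := bif Nat.blt j 177 then (Wt_175_177 j) else (Wt_177_180 j)
def Wt_170_180 (j : ℕ) : List ℕ := bif Nat.blt j 175 then (Wt_170_175 j) else (Wt_175_180 j)
def Wt_160_180 (j : ℕ) : List ℕ := bif Nat.blt j 170 then (Wt_160_170 j) else (Wt_170_180 j)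
def Wt_180_182 (j : ℕ) : List ℕ := bif Nat.blt j 181 then [nat_lit 63, nat_lit 1, nat_lit 4, nat_lit 1, nat_lit 4, nat_lit 2, nat_lit 0, nat_lit 2, nat_lit 4, nat_lit 1, nat_lit 4, nat_lit 0, nat_lit 1, nat_lit 2] else [nat_lit 0, nat_lit 2, nat_lit 4, nat_lit 2, nat_lit 1, nat_lit 3, nat_lit 3, nat_lit 1, nat_lit 3, nat_lit 0, nat_lit 4, nat_lit 3, nat_lit 4, nat_lit 3, nat_lit 4, nat_lit 2, nat_lit 2, nat_lit 1, nat_lit 2, nat_lit 0, nat_lit 3, nat_lit 0, nat_lit 3, nat_lit 2, nat_lit 3, nat_lit 4, nat_lit 1, nat_lit 0, nat_lit 4, nat_lit 3]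
def Wt_183_185 (j : ℕ) : List ℕ := bif Nat.blt j 184 then [nat_lit 63, nat_lit 0, nat_lit 2, nat_lit 1, nat_lit 0, nat_lit 1, nat_lit 0, nat_lit 2, nat_lit 0, nat_lit 1, nat_lit 0, nat_lit 2] else [nat_lit 3, nat_lit 2, nat_lit 4, nat_lit 3, nat_lit 0, nat_lit 1, nat_lit 4, nat_lit 0, nat_lit 3, nat_lit 4, nat_lit 3, nat_lit 4]
def Wt_182_185 (j : ℕ) : List ℕ := bif Nat.blt j 183 then [nat_lit 0, nat_lit 3, nat_lit 4, nat_lit 0, nat_lit 1, nat_lit 4, nat_lit 3, nat_lit 2, nat_lit 3, nat_lit 0, nat_lit 3, nat_lit 0, nat_lit 2, nat_lit 1, nat_lit 2, nat_lit 2, nat_lit 4, nat_lit 3, nat_lit 4, nat_lit 3, nat_lit 4, nat_lit 0, nat_lit 3, nat_lit 1, nat_lit 3, nat_lit 3, nat_lit 1, nat_lit 2, nat_lit 4, nat_lit 2] else (Wt_183_185 j)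
def Wt_180_185 (j : ℕ) : List ℕ := bif Nat.blt j 182 then (Wt_180_182 j) else (Wt_182_185 j)
def Wt_185_187 (j : ℕ) : List ℕ := bif Nat.blt j 186 then [nat_lit 3, nat_lit 4, nat_lit 3, nat_lit 4, nat_lit 3, nat_lit 0, nat_lit 4, nat_lit 1, nat_lit 0, nat_lit 3, nat_lit 4, nat_lit 2] else [nat_lit 3, nat_lit 0, nat_lit 3, nat_lit 2, nat_lit 3, nat_lit 4, nat_lit 1, nat_lit 0, nat_lit 4, nat_lit 3, nat_lit 0, nat_lit 2, nat_lit 4, nat_lit 2, nat_lit 1, nat_lit 3, nat_lit 3, nat_lit 1, nat_lit 3, nat_lit 0, nat_lit 4, nat_lit 3, nat_lit 4, nat_lit 3, nat_lit 4, nat_lit 2, nat_lit 2, nat_lit 1, nat_lit 2, nat_lit 0]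
def Wt_188_190 (j : ℕ) : List ℕ := bif Nat.blt j 189 then [nat_lit 63, nat_lit 1, nat_lit 0, nat_lit 4, nat_lit 1, nat_lit 4, nat_lit 2, nat_lit 0, nat_lit 2, nat_lit 4, nat_lit 1, nat_lit 4, nat_lit 1, nat_lit 2] else [nat_lit 2, nat_lit 1, nat_lit 2, nat_lit 2, nat_lit 4, nat_lit 3, nat_lit 4, nat_lit 3, nat_lit 4, nat_lit 0, nat_lit 3, nat_lit 1, nat_lit 3, nat_lit 3, nat_lit 1, nat_lit 2, nat_lit 4, nat_lit 2, nat_lit 0, nat_lit 3, nat_lit 4, nat_lit 0, nat_lit 1, nat_lit 4, nat_lit 3, nat_lit 2, nat_lit 3, nat_lit 0, nat_lit 3, nat_lit 0]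
def Wt_187_190 (j : ℕ) : List ℕ := bif Nat.blt j 188 then [nat_lit 63, nat_lit 1, nat_lit 0, nat_lit 3, nat_lit 4, nat_lit 2, nat_lit 3, nat_lit 4, nat_lit 3, nat_lit 4, nat_lit 3, nat_lit 0, nat_lit 4] else (Wt_188_190 j)
def Wt_185_190 (j : ℕ) : List ℕ := bif Nat.blt j 187 then (Wt_185_187 j) else (Wt_187_190 j)
def Wt_180_190 (j : ℕ) : List ℕ := bif Nat.blt j 185 then (Wt_180_185 j) else (Wt_185_190 j)
def Wt_190_192 (j : ℕ) : List ℕ := bif Nat.blt j 191 then [nat_lit 63, nat_lit 0, nat_lit 3, nat_lit 2, nat_lit 3, nat_lit 4, nat_lit 1, nat_lit 0, nat_lit 4, nat_lit 3, nat_lit 0, nat_lit 2, nat_lit 4, nat_lit 2, nat_lit 1, nat_lit 3, nat_lit 3, nat_lit 1, nat_lit 3, nat_lit 0, nat_lit 4, nat_lit 3, nat_lit 4, nat_lit 3, nat_lit 4, nat_lit 2, nat_lit 2, nat_lit 1, nat_lit 2, nat_lit 0, nat_lit 3] else [nat_lit 63, nat_lit 2, nat_lit 0, nat_lit 3, nat_lit 4, nat_lit 0, nat_lit 1, nat_lit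 4, nat_lit 3, nat_lit 2, nat_lit 3, nat_lit 0, nat_lit 3, nat_lit 0, nat_lit 2, nat_lit 1, nat_lit 2, nat_lit 2, nat_lit 4, nat_lit 3, nat_lit 4, nat_lit 3, nat_lit 4, nat_lit 0, nat_lit 3, nat_lit 1, nat_lit 3, nat_lit 3, nat_lit 1, nat_lit 2, nat_lit 4]
def Wt_193_195 (j : ℕ) : List ℕ := bif Nat.blt j 194 then [nat_lit 63, nat_lit 0, nat_lit 2, nat_lit 1, nat_lit 2, nat_lit 2, nat_lit 4, nat_lit 3, nat_lit 4, nat_lit 3, nat_lit 4, nat_lit 0, nat_lit 3, nat_lit 1, nat_lit 3, nat_lit 3, nat_lit 1, nat_lit 2, nat_lit 4, nat_lit 2, nat_lit 0, nat_lit 3, nat_lit 4, nat_lit 0, nat_lit 1, nat_lit 4, nat_lit 3, nat_lit 2, nat_lit 3, nat_lit 0, nat_lit 3] else [nat_lit 63, nat_lit 4, nat_lit 2, nat_lit 4, nat_lit 1, nat_lit 2, nat_lit 3, nat_lit 4, nat_lit 2, nat_lit 4, nat_lit 1, nat_lit 3, nat_lit 2]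
def Wt_192_195 (j : ℕ) : List ℕ := bif Nat.blt j 193 then [nat_lit 63, nat_lit 4, nat_lit 3, nat_lit 2, nat_lit 1, nat_lit 4, nat_lit 2, nat_lit 4, nat_lit 2, nat_lit 3, nat_lit 1, nat_lit 4, nat_lit 2] else (Wt_193_195 j)
def Wt_190_195 (j : ℕ) : List ℕ := bif Nat.blt j 192 then (Wt_190_192 j) else (Wt_192_195 j)
def Wt_195_197 (j : ℕ) : List ℕ := bif Nat.blt j 196 then [nat_lit 63, nat_lit 0, nat_lit 1, nat_lit 4, nat_lit 2, nat_lit 0, nat_lit 1, nat_lit 4, nat_lit 2, nat_lit 0, nat_lit 1, nat_lit 4, nat_lit 2] else [nat_lit 63, nat_lit 2, nat_lit 3, nat_lit 4, nat_lit 3, nat_lit 4, nat_lit 3, nat_lit 0, nat_lit 4, nat_lit 1, nat_lit 0, nat_lit 3, nat_lit 4]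
def Wt_198_200 (j : ℕ) : List ℕ := bif Nat.blt j 199 then [nat_lit 63, nat_lit 1, nat_lit 63, nat_lit 1, nat_lit 63] else [nat_lit 3, nat_lit 4, nat_lit 0, nat_lit 3, nat_lit 1, nat_lit 3, nat_lit 3, nat_lit 1, nat_lit 2, nat_lit 4, nat_lit 2, nat_lit 0, nat_lit 3, nat_lit 4, nat_lit 0, nat_lit 1, nat_lit 4, nat_lit 3, nat_lit 2, nat_lit 3, nat_lit 0, nat_lit 3, nat_lit 0, nat_lit 2, nat_lit 1, nat_lit 2, nat_lit 2, nat_lit 4, nat_lit 3, nat_lit 4]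
def Wt_197_200 (j : ℕ) : List ℕ := bif Nat.blt j 198 then [nat_lit 63, nat_lit 1, nat_lit 2, nat_lit 2, nat_lit 4, nat_lit 3, nat_lit 4, nat_lit 3, nat_lit 4, nat_lit 0, nat_lit 3, nat_lit 1, nat_lit 3, nat_lit 3, nat_lit 1, nat_lit 2, nat_lit 4, nat_lit 2, nat_lit 0, nat_lit 3, nat_lit 4, nat_lit 0, nat_lit 1, nat_lit 4, nat_lit 3, nat_lit 2, nat_lit 3, nat_lit 0, nat_lit 3, nat_lit 0, nat_lit 2] else (Wt_198_200 j)
def Wt_195_200 (j : ℕ) : List ℕ := bif Nat.blt j 197 then (Wt_195_197 j) else (Wt_197_200 j)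
def Wt_190_200 (j : ℕ) : List ℕ := bif Nat.blt j 195 then (Wt_190_195 j) else (Wt_195_200 j)
def Wt_180_200 (j : ℕ) : List ℕ := bif Nat.blt j 190 then (Wt_180_190 j) else (Wt_190_200 j)
def Wt_160_200 (j : ℕ) : List ℕ := bif Nat.blt j 180 then (Wt_160_180 j) else (Wt_180_200 j)
def Wt_200_202 (j : ℕ) : List ℕ := bif Nat.blt j 201 then [nat_lit 3, nat_lit 4, nat_lit 2, nat_lit 2, nat_lit 1, nat_lit 2, nat_lit 0, nat_lit 3, nat_lit 0, nat_lit 3, nat_lit 2, nat_lit 3, nat_lit 4, nat_lit 1, nat_lit 0, nat_lit 4, nat_lit 3, nat_lit 0, nat_lit 2, nat_lit 4, nat_lit 2, nat_lit 1, nat_lit 3, nat_lit 3, nat_lit 1, nat_lit 3, nat_lit 0, nat_lit 4, nat_lit 3, nat_lit 4] else [nat_lit 63, nat_lit 2, nat_lit 4, nat_lit 1, nat_lit 0, nat_lit 2, nat_lit 4, nat_lit 1, nat_lit 0, nat_lit 2, nat_lit 4, nat_lit 1, nat_lit 0]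
def Wt_203_205 (j : ℕ) : List ℕ := bif Nat.blt j 204 then [nat_lit 2, nat_lit 4, nat_lit 2, nat_lit 1, nat_lit 3, nat_lit 3, nat_lit 1, nat_lit 3, nat_lit 0, nat_lit 4, nat_lit 3, nat_lit 4, nat_lit 3, nat_lit 4, nat_lit 2, nat_lit 2, nat_lit 1, nat_lit 2, nat_lit 0, nat_lit 3, nat_lit 0, nat_lit 3, nat_lit 2, nat_lit 3, nat_lit 4, nat_lit 1, nat_lit 0, nat_lit 4, nat_lit 3, nat_lit 0] else [nat_lit 4, nat_lit 3, nat_lit 2, nat_lit 1, nat_lit 4, nat_lit 2, nat_lit 4, nat_lit 2, nat_lit 3, nat_lit 1, nat_lit 4, nat_lit 2]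
def Wt_202_205 (j : ℕ) : List ℕ := bif Nat.blt j 203 then [nat_lit 3, nat_lit 0, nat_lit 2, nat_lit 4, nat_lit 2, nat_lit 1, nat_lit 3, nat_lit 3, nat_lit 1, nat_lit 3, nat_lit 0, nat_lit 4, nat_lit 3, nat_lit 4, nat_lit 3, nat_lit 4, nat_lit 2, nat_lit 2, nat_lit 1, nat_lit 2, nat_lit 0, nat_lit 3, nat_lit 0, nat_lit 3, nat_lit 2, nat_lit 3, nat_lit 4, nat_lit 1, nat_lit 0, nat_lit 4] else (Wt_203_205 j)
def Wt_200_205 (j : ℕ) : List ℕ := bif Nat.blt j 202 then (Wt_200_202 j) else (Wt_202_205 j)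
def Wt_205_207 (j : ℕ) : List ℕ := bif Nat.blt j 206 then [nat_lit 63, nat_lit 0, nat_lit 4, nat_lit 1, nat_lit 0, nat_lit 3, nat_lit 4, nat_lit 2, nat_lit 3, nat_lit 4, nat_lit 3, nat_lit 4, nat_lit 3] else [nat_lit 1, nat_lit 2, nat_lit 2, nat_lit 4, nat_lit 3, nat_lit 4, nat_lit 3, nat_lit 4, nat_lit 0, nat_lit 3, nat_lit 1, nat_lit 3, nat_lit 3, nat_lit 1, nat_lit 2, nat_lit 4, nat_lit 2, nat_lit 0, nat_lit 3, nat_lit 4, nat_lit 0, nat_lit 1, nat_lit 4, nat_lit 3, nat_lit 2, nat_lit 3, nat_lit 0, nat_lit 3, nat_lit 0, nat_lit 2]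
def Wt_208_210 (j : ℕ) : List ℕ := bif Nat.blt j 209 then [nat_lit 63, nat_lit 4, nat_lit 2, nat_lit 3, nat_lit 4, nat_lit 3, nat_lit 4, nat_lit 3, nat_lit 0, nat_lit 4, nat_lit 1, nat_lit 0, nat_lit 3] else [nat_lit 3, nat_lit 4, nat_lit 3, nat_lit 4, nat_lit 2, nat_lit 2, nat_lit 1, nat_lit 2, nat_lit 0, nat_lit 3, nat_lit 0, nat_lit 3, nat_lit 2, nat_lit 3, nat_lit 4, nat_lit 1, nat_lit 0, nat_lit 4, nat_lit 3, nat_lit 0, nat_lit 2, nat_lit 4, nat_lit 2, nat_lit 1, nat_lit 3, nat_lit 3, nat_lit 1, nat_lit 3, nat_lit 0, nat_lit 4]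
def Wt_207_210 (j : ℕ) : List ℕ := bif Nat.blt j 208 then [nat_lit 3, nat_lit 4, nat_lit 3, nat_lit 4, nat_lit 0, nat_lit 3, nat_lit 1, nat_lit 3, nat_lit 3, nat_lit 1, nat_lit 2, nat_lit 4, nat_lit 2, nat_lit 0, nat_lit 3, nat_lit 4, nat_lit 0, nat_lit 1, nat_lit 4, nat_lit 3, nat_lit 2, nat_lit 3, nat_lit 0, nat_lit 3, nat_lit 0, nat_lit 2, nat_lit 1, nat_lit 2, nat_lit 2, nat_lit 4] else (Wt_208_210 j)
def Wt_205_210 (j : ℕ) : List ℕ := bif Nat.blt j 207 then (Wt_205_207 j) else (Wt_207_210 j)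
def Wt_200_210 (j : ℕ) : List ℕ := bif Nat.blt j 205 then (Wt_200_205 j) else (Wt_205_210 j)
def Wt_210_212 (j : ℕ) : List ℕ := bif Nat.blt j 211 then [nat_lit 3, nat_lit 4, nat_lit 0, nat_lit 1, nat_lit 4, nat_lit 3, nat_lit 2, nat_lit 3, nat_lit 0, nat_lit 3, nat_lit 0, nat_lit 2, nat_lit 1, nat_lit 2, nat_lit 2, nat_lit 4, nat_lit 3, nat_lit 4, nat_lit 3, nat_lit 4, nat_lit 0, nat_lit 3, nat_lit 1, nat_lit 3, nat_lit 3, nat_lit 1, nat_lit 2, nat_lit 4, nat_lit 2, nat_lit 0] else [nat_lit 0, nat_lit 3, nat_lit 1, nat_lit 3, nat_lit 3, nat_lit 1, nat_lit 2, nat_lit 4, nat_lit 2, nat_lit 0, nat_lit 3, nat_lit 4, nat_lit 0, nat_lit 1, nat_lit 4, nat_lit 3, nat_lit 2, nat_lit 3, nat_lit 0, nat_lit 3, nat_lit 0, nat_lit 2, nat_lit 1, nat_lit 2, nat_lit 2, nat_lit 4, nat_lit 3, nat_lit 4, nat_lit 3, nat_lit 4]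
def Wt_213_215 (j : ℕ) : List ℕ := bif Nat.blt j 214 then [nat_lit 4, nat_lit 2, nat_lit 2, nat_lit 1, nat_lit 2, nat_lit 0, nat_lit 3, nat_lit 0, nat_lit 3, nat_lit 2, nat_lit 3, nat_lit 4, nat_lit 1, nat_lit 0, nat_lit 4, nat_lit 3, nat_lit 0, nat_lit 2, nat_lit 4, nat_lit 2, nat_lit 1, nat_lit 3, nat_lit 3, nat_lit 1, nat_lit 3, nat_lit 0, nat_lit 4, nat_lit 3, nat_lit 4, nat_lit 3] else [nat_lit 63, nat_lit 2, nat_lit 1, nat_lit 4, nat_lit 2, nat_lit 4, nat_lit 2, nat_lit 3, nat_lit 1, nat_lit 4, nat_lit 2, nat_lit 4, nat_lit 3]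
def Wt_212_215 (j : ℕ) : List ℕ := bif Nat.blt j 213 then [nat_lit 63, nat_lit 4, nat_lit 3, nat_lit 4, nat_lit 3, nat_lit 2, nat_lit 4, nat_lit 3, nat_lit 0, nat_lit 1, nat_lit 4, nat_lit 0, nat_lit 3] else (Wt_213_215 j)
def Wt_210_215 (j : ℕ) : List ℕ := bif Nat.blt j 212 then (Wt_210_212 j) else (Wt_212_215 j)
def Wt_215_217 (j : ℕ) : List ℕ := bif Nat.blt j 216 then [nat_lit 63, nat_lit 3, nat_lit 0, nat_lit 3, nat_lit 2, nat_lit 3, nat_lit 4, nat_lit 1, nat_lit 0, nat_lit 4, nat_lit 3, nat_lit 0, nat_lit 2, nat_lit 4, nat_lit 2, nat_lit 1, nat_lit 3, nat_lit 3, nat_lit 1, nat_lit 3, nat_lit 0, nat_lit 4, nat_lit 3, nat_lit 4, nat_lit 3, nat_lit 4, nat_lit 2, nat_lit 2, nat_lit 1, nat_lit 2, nat_lit 0] else [nat_lit 63, nat_lit 3, nat_lit 4, nat_lit 3, nat_lit 4, nat_lit 3, nat_lit 0, nat_lit 4, nat_lit 1, nat_lit 0, nat_lit 3, nat_lit 4, nat_lit 2]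
def Wt_218_220 (j : ℕ) : List ℕ := bif Nat.blt j 219 then [nat_lit 2, nat_lit 3, nat_lit 4, nat_lit 2, nat_lit 4, nat_lit 1, nat_lit 3, nat_lit 2, nat_lit 4, nat_lit 2, nat_lit 4, nat_lit 1] else [nat_lit 63, nat_lit 2, nat_lit 0, nat_lit 1, nat_lit 4, nat_lit 2, nat_lit 0, nat_lit 1, nat_lit 4, nat_lit 2, nat_lit 0, nat_lit 1, nat_lit 4]
def Wt_217_220 (j : ℕ) : List ℕ := bif Nat.blt j 218 then [nat_lit 63, nat_lit 2, nat_lit 4, nat_lit 2, nat_lit 4, nat_lit 1, nat_lit 2, nat_lit 3, nat_lit 4, nat_lit 2, nat_lit 4, nat_lit 1, nat_lit 3] else (Wt_218_220 j)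
def Wt_215_220 (j : ℕ) : List ℕ := bif Nat.blt j 217 then (Wt_215_217 j) else (Wt_217_220 j)
def Wt_210_220 (j : ℕ) : List ℕ := bif Nat.blt j 215 then (Wt_210_215 j) else (Wt_215_220 j)
def Wt_200_220 (j : ℕ) : List ℕ := bif Nat.blt j 210 then (Wt_200_210 j) else (Wt_210_220 j)
def Wt_220_222 (j : ℕ) : List ℕ := bif Nat.blt j 221 then [nat_lit 63, nat_lit 1, nat_lit 4, nat_lit 2, nat_lit 0, nat_lit 2, nat_lit 4, nat_lit 1, nat_lit 4, nat_lit 0, nat_lit 1, nat_lit 2, nat_lit 1, nat_lit 4] else [nat_lit 63, nat_lit 4, nat_lit 2, nat_lit 4, nat_lit 2, nat_lit 3, nat_lit 1, nat_lit 4, nat_lit 2, nat_lit 4, nat_lit 3, nat_lit 2, nat_lit 1]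
def Wt_223_225 (j : ℕ) : List ℕ := bif Nat.blt j 224 then [nat_lit 2, nat_lit 0, nat_lit 3, nat_lit 4, nat_lit 0, nat_lit 1, nat_lit 4, nat_lit 3, nat_lit 2, nat_lit 3, nat_lit 0, nat_lit 3, nat_lit 0, nat_lit 2, nat_lit 1, nat_lit 2, nat_lit 2, nat_lit 4, nat_lit 3, nat_lit 4, nat_lit 3, nat_lit 4, nat_lit 0, nat_lit 3, nat_lit 1, nat_lit 3, nat_lit 3, nat_lit 1, nat_lit 2, nat_lit 4] else [nat_lit 0, nat_lit 2, nat_lit 1, nat_lit 2, nat_lit 2, nat_lit 4, nat_lit 3, nat_lit 4, nat_lit 3, nat_lit 4, nat_lit 0, nat_lit 3, nat_lit 1, nat_lit 3, nat_lit 3, nat_lit 1, nat_lit 2, nat_lit 4, nat_lit 2, nat_lit 0, nat_lit 3, nat_lit 4, nat_lit 0, nat_lit 1, nat_lit 4, nat_lit 3, nat_lit 2, nat_lit 3, nat_lit 0, nat_lit 3]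
def Wt_222_225 (j : ℕ) : List ℕ := bif Nat.blt j 223 then [nat_lit 0, nat_lit 3, nat_lit 0, nat_lit 3, nat_lit 2, nat_lit 3, nat_lit 4, nat_lit 1, nat_lit 0, nat_lit 4, nat_lit 3, nat_lit 0, nat_lit 2, nat_lit 4, nat_lit 2, nat_lit 1, nat_lit 3, nat_lit 3, nat_lit 1, nat_lit 3, nat_lit 0, nat_lit 4, nat_lit 3, nat_lit 4, nat_lit 3, nat_lit 4, nat_lit 2, nat_lit 2, nat_lit 1, nat_lit 2] else (Wt_223_225 j)
def Wt_220_225 (j : ℕ) : List ℕ := bif Nat.blt j 222 then (Wt_220_222 j) else (Wt_222_225 j)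
def Wt_225_227 (j : ℕ) : List ℕ := bif Nat.blt j 226 then [nat_lit 63, nat_lit 2, nat_lit 0, nat_lit 2, nat_lit 1, nat_lit 0, nat_lit 1, nat_lit 0, nat_lit 2, nat_lit 0, nat_lit 1, nat_lit 0] else [nat_lit 63, nat_lit 0, nat_lit 1, nat_lit 4, nat_lit 0, nat_lit 3, nat_lit 4, nat_lit 3, nat_lit 4, nat_lit 3, nat_lit 2, nat_lit 4, nat_lit 3]
def Wt_228_230 (j : ℕ) : List ℕ := bif Nat.blt j 229 then [nat_lit 63, nat_lit 4, nat_lit 1, nat_lit 0, nat_lit 2, nat_lit 4, nat_lit 1, nat_lit 0, nat_lit 2, nat_lit 4, nat_lit 1, nat_lit 0, nat_lit 2] else [nat_lit 63, nat_lit 63, nat_lit 1, nat_lit 63, nat_lit 1]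
def Wt_227_230 (j : ℕ) : List ℕ := bif Nat.blt j 228 then [nat_lit 63, nat_lit 1, nat_lit 0, nat_lit 2, nat_lit 4, nat_lit 1, nat_lit 0, nat_lit 2, nat_lit 4, nat_lit 1, nat_lit 0, nat_lit 2, nat_lit 4] else (Wt_228_230 j)
def Wt_225_230 (j : ℕ) : List ℕ := bif Nat.blt j 227 then (Wt_225_227 j) else (Wt_227_230 j)
def Wt_220_230 (j : ℕ) : List ℕ := bif Nat.blt j 225 then (Wt_220_225 j) else (Wt_225_230 j)
def Wt_230_232 (j : ℕ) : List ℕ := bif Nat.blt j 231 then [nat_lit 63, nat_lit 4, nat_lit 2, nat_lit 4, nat_lit 1, nat_lit 3, nat_lit 2, nat_lit 4, nat_lit 2, nat_lit 4, nat_lit 1, nat_lit 2, nat_lit 3] else [nat_lit 1, nat_lit 0, nat_lit 4, nat_lit 3, nat_lit 0, nat_lit 2, nat_lit 4, nat_lit 2, nat_lit 1, nat_lit 3, nat_lit 3, nat_lit 1, nat_lit 3, nat_lit 0, nat_lit 4, nat_lit 3, nat_lit 4, nat_lit 3, nat_lit 4, nat_lit 2, nat_lit 2, nat_lit 1, nat_lit 2, nat_lit 0, nat_lit 3, nat_lit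 0, nat_lit 3, nat_lit 2, nat_lit 3, nat_lit 4]
def Wt_233_235 (j : ℕ) : List ℕ := bif Nat.blt j 234 then [nat_lit 63, nat_lit 4, nat_lit 3, nat_lit 0, nat_lit 1, nat_lit 4, nat_lit 0, nat_lit 3, nat_lit 4, nat_lit 3, nat_lit 4, nat_lit 3, nat_lit 2] else [nat_lit 63, nat_lit 4, nat_lit 2, nat_lit 1, nat_lit 3, nat_lit 3, nat_lit 1, nat_lit 3, nat_lit 0, nat_lit 4, nat_lit 3, nat_lit 4, nat_lit 3, nat_lit 4, nat_lit 2, nat_lit 2, nat_lit 1, nat_lit 2, nat_lit 0, nat_lit 3, nat_lit 0, nat_lit 3, nat_lit 2, nat_lit 3, nat_lit 4, nat_lit 1, nat_lit 0, nat_lit 4, nat_lit 3, nat_lit 0, nat_lit 2]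
def Wt_232_235 (j : ℕ) : List ℕ := bif Nat.blt j 233 then [nat_lit 4, nat_lit 3, nat_lit 4, nat_lit 3, nat_lit 4, nat_lit 0, nat_lit 3, nat_lit 1, nat_lit 3, nat_lit 3, nat_lit 1, nat_lit 2, nat_lit 4, nat_lit 2, nat_lit 0, nat_lit 3, nat_lit 4, nat_lit 0, nat_lit 1, nat_lit 4, nat_lit 3, nat_lit 2, nat_lit 3, nat_lit 0, nat_lit 3, nat_lit 0, nat_lit 2, nat_lit 1, nat_lit 2, nat_lit 2] else (Wt_233_235 j)
def Wt_230_235 (j : ℕ) : List ℕ := bif Nat.blt j 232 then (Wt_230_232 j) else (Wt_232_235 j)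
def Wt_235_237 (j : ℕ) : List ℕ := bif Nat.blt j 236 then [nat_lit 63, nat_lit 2, nat_lit 4, nat_lit 1, nat_lit 2, nat_lit 3, nat_lit 4, nat_lit 2, nat_lit 4, nat_lit 1, nat_lit 3, nat_lit 2, nat_lit 4] else [nat_lit 63, nat_lit 3, nat_lit 1, nat_lit 3, nat_lit 3, nat_lit 1, nat_lit 2, nat_lit 4, nat_lit 2, nat_lit 0, nat_lit 3, nat_lit 4, nat_lit 0, nat_lit 1, nat_lit 4, nat_lit 3, nat_lit 2, nat_lit 3, nat_lit 0, nat_lit 3, nat_lit 0, nat_lit 2, nat_lit 1, nat_lit 2, nat_lit 2, nat_lit 4, nat_lit 3, nat_lit 4, nat_lit 3, nat_lit 4, nat_lit 0]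
def Wt_238_240 (j : ℕ) : List ℕ := bif Nat.blt j 239 then [nat_lit 63, nat_lit 1, nat_lit 2, nat_lit 1, nat_lit 0, nat_lit 4, nat_lit 1, nat_lit 4, nat_lit 2, nat_lit 0, nat_lit 2, nat_lit 4, nat_lit 1, nat_lit 4] else [nat_lit 63, nat_lit 2, nat_lit 4, nat_lit 2, nat_lit 1, nat_lit 3, nat_lit 3, nat_lit 1, nat_lit 3, nat_lit 0, nat_lit 4, nat_lit 3, nat_lit 4, nat_lit 3, nat_lit 4, nat_lit 2, nat_lit 2, nat_lit 1, nat_lit 2, nat_lit 0, nat_lit 3, nat_lit 0, nat_lit 3, nat_lit 2, nat_lit 3, nat_lit 4, nat_lit 1, nat_lit 0, nat_lit 4, nat_lit 3, nat_lit 0]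
def Wt_237_240 (j : ℕ) : List ℕ := bif Nat.blt j 238 then [nat_lit 63, nat_lit 3, nat_lit 2, nat_lit 3, nat_lit 4, nat_lit 1, nat_lit 0, nat_lit 4, nat_lit 3, nat_lit 0, nat_lit 2, nat_lit 4, nat_lit 2, nat_lit 1, nat_lit 3, nat_lit 3, nat_lit 1, nat_lit 3, nat_lit 0, nat_lit 4, nat_lit 3, nat_lit 4, nat_lit 3, nat_lit 4, nat_lit 2, nat_lit 2, nat_lit 1, nat_lit 2, nat_lit 0, nat_lit 3, nat_lit 0] else (Wt_238_240 j)
def Wt_235_240 (j : ℕ) : List ℕ := bif Nat.blt j 237 then (Wt_235_237 j) else (Wt_237_240 j)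
def Wt_230_240 (j : ℕ) : List ℕ := bif Nat.blt j 235 then (Wt_230_235 j) else (Wt_235_240 j)
def Wt_220_240 (j : ℕ) : List ℕ := bif Nat.blt j 230 then (Wt_220_230 j) else (Wt_230_240 j)
def Wt_200_240 (j : ℕ) : List ℕ := bif Nat.blt j 220 then (Wt_200_220 j) else (Wt_220_240 j)
def Wt_160_240 (j : ℕ) : List ℕ := bif Nat.blt j 200 then (Wt_160_200 j) else (Wt_200_240 j)
def Wt_240_242 (j : ℕ) : List ℕ := bif Nat.blt j 241 then [nat_lit 63, nat_lit 4, nat_lit 3, nat_lit 4, nat_lit 3, nat_lit 4, nat_lit 0, nat_lit 3, nat_lit 1, nat_lit 3, nat_lit 3, nat_lit 1, nat_lit 2, nat_lit 4, nat_lit 2, nat_lit 0, nat_lit 3, nat_lit 4, nat_lit 0, nat_lit 1, nat_lit 4, nat_lit 3, nat_lit 2, nat_lit 3, nat_lit 0, nat_lit 3, nat_lit 0, nat_lit 2, nat_lit 1, nat_lit 2, nat_lit 2] else [nat_lit 63, nat_lit 1, nat_lit 3, nat_lit 3, nat_lit 1, nat_lit 3, nat_lit 0, nat_lit 4, nat_lit 3, nat_lit 4, nat_lit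 3, nat_lit 4, nat_lit 2, nat_lit 2, nat_lit 1, nat_lit 2, nat_lit 0, nat_lit 3, nat_lit 0, nat_lit 3, nat_lit 2, nat_lit 3, nat_lit 4, nat_lit 1, nat_lit 0, nat_lit 4, nat_lit 3, nat_lit 0, nat_lit 2, nat_lit 4, nat_lit 2]
def Wt_243_245 (j : ℕ) : List ℕ := bif Nat.blt j 244 then [nat_lit 63, nat_lit 4, nat_lit 1, nat_lit 2, nat_lit 3, nat_lit 4, nat_lit 2, nat_lit 4, nat_lit 1, nat_lit 3, nat_lit 2, nat_lit 4, nat_lit 2] else [nat_lit 63, nat_lit 2, nat_lit 1, nat_lit 2, nat_lit 2, nat_lit 4, nat_lit 3, nat_lit 4, nat_lit 3, nat_lit 4, nat_lit 0, nat_lit 3, nat_lit 1, nat_lit 3, nat_lit 3, nat_lit 1, nat_lit 2, nat_lit 4, nat_lit 2, nat_lit 0, nat_lit 3, nat_lit 4, nat_lit 0, nat_lit 1, nat_lit 4, nat_lit 3, nat_lit 2, nat_lit 3, nat_lit 0, nat_lit 3, nat_lit 0]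
def Wt_242_245 (j : ℕ) : List ℕ := bif Nat.blt j 243 then [nat_lit 63, nat_lit 3, nat_lit 2, nat_lit 1, nat_lit 4, nat_lit 2, nat_lit 4, nat_lit 2, nat_lit 3, nat_lit 1, nat_lit 4, nat_lit 2, nat_lit 4] else (Wt_243_245 j)
def Wt_240_245 (j : ℕ) : List ℕ := bif Nat.blt j 242 then (Wt_240_242 j) else (Wt_242_245 j)
def Wt_245_247 (j : ℕ) : List ℕ := bif Nat.blt j 246 then [nat_lit 63, nat_lit 3, nat_lit 0, nat_lit 1, nat_lit 4, nat_lit 0, nat_lit 3, nat_lit 4, nat_lit 3, nat_lit 4, nat_lit 3, nat_lit 2, nat_lit 4] else [nat_lit 63, nat_lit 3, nat_lit 2, nat_lit 4, nat_lit 3, nat_lit 0, nat_lit 1, nat_lit 4, nat_lit 0, nat_lit 3, nat_lit 4, nat_lit 3, nat_lit 4]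
def Wt_248_250 (j : ℕ) : List ℕ := bif Nat.blt j 249 then [nat_lit 2, nat_lit 3, nat_lit 0, nat_lit 3, nat_lit 0, nat_lit 2, nat_lit 1, nat_lit 2, nat_lit 2, nat_lit 4, nat_lit 3, nat_lit 4, nat_lit 3, nat_lit 4, nat_lit 0, nat_lit 3, nat_lit 1, nat_lit 3, nat_lit 3, nat_lit 1, nat_lit 2, nat_lit 4, nat_lit 2, nat_lit 0, nat_lit 3, nat_lit 4, nat_lit 0, nat_lit 1, nat_lit 4, nat_lit 3] else [nat_lit 63, nat_lit 1, nat_lit 2, nat_lit 3, nat_lit 4, nat_lit 2, nat_lit 4, nat_lit 1, nat_lit 3, nat_lit 2, nat_lit 4, nat_lit 2, nat_lit 4]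
def Wt_247_250 (j : ℕ) : List ℕ := bif Nat.blt j 248 then [nat_lit 63, nat_lit 4, nat_lit 1, nat_lit 4, nat_lit 1, nat_lit 2, nat_lit 1, nat_lit 0, nat_lit 4, nat_lit 1, nat_lit 4, nat_lit 2, nat_lit 0, nat_lit 2] else (Wt_248_250 j)
def Wt_245_250 (j : ℕ) : List ℕ := bif Nat.blt j 247 then (Wt_245_247 j) else (Wt_247_250 j)
def Wt_240_250 (j : ℕ) : List ℕ := bif Nat.blt j 245 then (Wt_240_245 j) else (Wt_245_250 j)
def Wt_250_252 (j : ℕ) : List ℕ := bif Nat.blt j 251 then [nat_lit 63, nat_lit 2, nat_lit 4, nat_lit 2, nat_lit 3, nat_lit 1, nat_lit 4, nat_lit 2, nat_lit 4, nat_lit 3, nat_lit 2, nat_lit 1, nat_lit 4] else [nat_lit 4, nat_lit 3, nat_lit 0, nat_lit 2, nat_lit 4, nat_lit 2, nat_lit 1, nat_lit 3, nat_lit 3, nat_lit 1, nat_lit 3, nat_lit 0, nat_lit 4, nat_lit 3, nat_lit 4, nat_lit 3, nat_lit 4, nat_lit 2, nat_lit 2, nat_lit 1, nat_lit 2, nat_lit 0, nat_lit 3, nat_lit 0, nat_lit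 3, nat_lit 2, nat_lit 3, nat_lit 4, nat_lit 1, nat_lit 0]
def Wt_253_255 (j : ℕ) : List ℕ := bif Nat.blt j 254 then [nat_lit 63, nat_lit 2, nat_lit 4, nat_lit 3, nat_lit 0, nat_lit 1, nat_lit 4, nat_lit 0, nat_lit 3, nat_lit 4, nat_lit 3, nat_lit 4, nat_lit 3] else [nat_lit 63, nat_lit 4, nat_lit 1, nat_lit 2, nat_lit 1, nat_lit 0, nat_lit 4, nat_lit 1, nat_lit 4, nat_lit 2, nat_lit 0, nat_lit 2, nat_lit 4, nat_lit 1]
def Wt_252_255 (j : ℕ) : List ℕ := bif Nat.blt j 253 then [nat_lit 63, nat_lit 0, nat_lit 1, nat_lit 0, nat_lit 1, nat_lit 2, nat_lit 0, nat_lit 2, nat_lit 0, nat_lit 1, nat_lit 0, nat_lit 2] else (Wt_253_255 j)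
def Wt_250_255 (j : ℕ) : List ℕ := bif Nat.blt j 252 then (Wt_250_252 j) else (Wt_252_255 j)
def Wt_255_257 (j : ℕ) : List ℕ := bif Nat.blt j 256 then [nat_lit 63, nat_lit 2, nat_lit 0, nat_lit 3, nat_lit 0, nat_lit 3, nat_lit 2, nat_lit 3, nat_lit 4, nat_lit 1, nat_lit 0, nat_lit 4, nat_lit 3, nat_lit 0, nat_lit 2, nat_lit 4, nat_lit 2, nat_lit 1, nat_lit 3, nat_lit 3, nat_lit 1, nat_lit 3, nat_lit 0, nat_lit 4, nat_lit 3, nat_lit 4, nat_lit 3, nat_lit 4, nat_lit 2, nat_lit 2, nat_lit 1] else [nat_lit 63, nat_lit 3, nat_lit 4, nat_lit 0, nat_lit 1, nat_lit 4, nat_lit 3, nat_lit 2, nat_lit 3, nat_lit 0, nat_lit 3, nat_lit 0, nat_lit 2, nat_lit 1, nat_lit 2, nat_lit 2, nat_lit 4, nat_lit 3, nat_lit 4, nat_lit 3, nat_lit 4, nat_lit 0, nat_lit 3, nat_lit 1, nat_lit 3, nat_lit 3, nat_lit 1, nat_lit 2, nat_lit 4, nat_lit 2, nat_lit 0]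
def Wt_258_260 (j : ℕ) : List ℕ := bif Nat.blt j 259 then [nat_lit 63, nat_lit 0, nat_lit 2, nat_lit 4, nat_lit 1, nat_lit 0, nat_lit 2, nat_lit 4, nat_lit 1, nat_lit 0, nat_lit 2, nat_lit 4, nat_lit 1] else [nat_lit 63, nat_lit 2, nat_lit 3, nat_lit 0, nat_lit 3, nat_lit 0, nat_lit 2, nat_lit 1, nat_lit 2, nat_lit 2, nat_lit 4, nat_lit 3, nat_lit 4, nat_lit 3, nat_lit 4, nat_lit 0, nat_lit 3, nat_lit 1, nat_lit 3, nat_lit 3, nat_lit 1, nat_lit 2, nat_lit 4, nat_lit 2, nat_lit 0, nat_lit 3, nat_lit 4, nat_lit 0, nat_lit 1, nat_lit 4, nat_lit 3]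
def Wt_257_260 (j : ℕ) : List ℕ := bif Nat.blt j 258 then [nat_lit 63, nat_lit 2, nat_lit 4, nat_lit 3, nat_lit 2, nat_lit 1, nat_lit 4, nat_lit 2, nat_lit 4, nat_lit 2, nat_lit 3, nat_lit 1, nat_lit 4] else (Wt_258_260 j)
def Wt_255_260 (j : ℕ) : List ℕ := bif Nat.blt j 257 then (Wt_255_257 j) else (Wt_257_260 j)
def Wt_250_260 (j : ℕ) : List ℕ := bif Nat.blt j 255 then (Wt_250_255 j) else (Wt_255_260 j)
def Wt_240_260 (j : ℕ) : List ℕ := bif Nat.blt j 250 then (Wt_240_250 j) else (Wt_250_260 j)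
def Wt_260_262 (j : ℕ) : List ℕ := bif Nat.blt j 261 then [nat_lit 63, nat_lit 4, nat_lit 2, nat_lit 4, nat_lit 3, nat_lit 2, nat_lit 1, nat_lit 4, nat_lit 2, nat_lit 4, nat_lit 2, nat_lit 3, nat_lit 1] else [nat_lit 63, nat_lit 1, nat_lit 4, nat_lit 2, nat_lit 0, nat_lit 1, nat_lit 4, nat_lit 2, nat_lit 0, nat_lit 1, nat_lit 4, nat_lit 2, nat_lit 0]
def Wt_263_265 (j : ℕ) : List ℕ := bif Nat.blt j 264 then [nat_lit 63, nat_lit 4, nat_lit 3, nat_lit 4, nat_lit 3, nat_lit 4, nat_lit 2, nat_lit 2, nat_lit 1, nat_lit 2, nat_lit 0, nat_lit 3, nat_lit 0, nat_lit 3, nat_lit 2, nat_lit 3, nat_lit 4, nat_lit 1, nat_lit 0, nat_lit 4, nat_lit 3, nat_lit 0, nat_lit 2, nat_lit 4, nat_lit 2, nat_lit 1, nat_lit 3, nat_lit 3, nat_lit 1, nat_lit 3, nat_lit 0] else [nat_lit 63, nat_lit 0, nat_lit 63, nat_lit 0, nat_lit 63]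
def Wt_262_265 (j : ℕ) : List ℕ := bif Nat.blt j 263 then [nat_lit 2, nat_lit 1, nat_lit 4, nat_lit 2, nat_lit 4, nat_lit 2, nat_lit 3, nat_lit 1, nat_lit 4, nat_lit 2, nat_lit 4, nat_lit 3] else (Wt_263_265 j)
def Wt_260_265 (j : ℕ) : List ℕ := bif Nat.blt j 262 then (Wt_260_262 j) else (Wt_262_265 j)
def Wt_265_267 (j : ℕ) : List ℕ := bif Nat.blt j 266 then [nat_lit 63, nat_lit 3, nat_lit 63, nat_lit 3, nat_lit 63] else [nat_lit 63, nat_lit 63, nat_lit 2, nat_lit 63, nat_lit 2]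
def Wt_268_270 (j : ℕ) : List ℕ := bif Nat.blt j 269 then [nat_lit 63, nat_lit 0, nat_lit 3, nat_lit 1, nat_lit 3, nat_lit 3, nat_lit 1, nat_lit 2, nat_lit 4, nat_lit 2, nat_lit 0, nat_lit 3, nat_lit 4, nat_lit 0, nat_lit 1, nat_lit 4, nat_lit 3, nat_lit 2, nat_lit 3, nat_lit 0, nat_lit 3, nat_lit 0, nat_lit 2, nat_lit 1, nat_lit 2, nat_lit 2, nat_lit 4, nat_lit 3, nat_lit 4, nat_lit 3, nat_lit 4] else [nat_lit 1, nat_lit 4, nat_lit 3, nat_lit 2, nat_lit 3, nat_lit 0, nat_lit 3, nat_lit 0, nat_lit 2, nat_lit 1, nat_lit 2, nat_lit 2, nat_lit 4, nat_lit 3, nat_lit 4, nat_lit 3, nat_lit 4, nat_lit 0, nat_lit 3, nat_lit 1, nat_lit 3, nat_lit 3, nat_lit 1, nat_lit 2, nat_lit 4, nat_lit 2, nat_lit 0, nat_lit 3, nat_lit 4, nat_lit 0]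
def Wt_267_270 (j : ℕ) : List ℕ := bif Nat.blt j 268 then [nat_lit 63, nat_lit 3, nat_lit 4, nat_lit 3, nat_lit 2, nat_lit 4, nat_lit 3, nat_lit 0, nat_lit 1, nat_lit 4, nat_lit 0, nat_lit 3, nat_lit 4] else (Wt_268_270 j)
def Wt_265_270 (j : ℕ) : List ℕ := bif Nat.blt j 267 then (Wt_265_267 j) else (Wt_267_270 j)
def Wt_260_270 (j : ℕ) : List ℕ := bif Nat.blt j 265 then (Wt_260_265 j) else (Wt_265_270 j)
def Wt_270_272 (j : ℕ) : List ℕ := bif Nat.blt j 271 then [nat_lit 63, nat_lit 3, nat_lit 4, nat_lit 3, nat_lit 0, nat_lit 4, nat_lit 1, nat_lit 0, nat_lit 3, nat_lit 4, nat_lit 2, nat_lit 3, nat_lit 4] else [nat_lit 63, nat_lit 4, nat_lit 0, nat_lit 1, nat_lit 2, nat_lit 1, nat_lit 4, nat_lit 1, nat_lit 4, nat_lit 2, nat_lit 0, nat_lit 2, nat_lit 4, nat_lit 1]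
def Wt_273_275 (j : ℕ) : List ℕ := bif Nat.blt j 274 then [nat_lit 1, nat_lit 63, nat_lit 1, nat_lit 63] else [nat_lit 2, nat_lit 0, nat_lit 2, nat_lit 4, nat_lit 1, nat_lit 4, nat_lit 0, nat_lit 1, nat_lit 2, nat_lit 1, nat_lit 4, nat_lit 1, nat_lit 4]
def Wt_272_275 (j : ℕ) : List ℕ := bif Nat.blt j 273 then [nat_lit 2, nat_lit 4, nat_lit 1, nat_lit 4, nat_lit 0, nat_lit 1, nat_lit 2, nat_lit 1, nat_lit 4, nat_lit 1, nat_lit 4, nat_lit 2, nat_lit 0] else (Wt_273_275 j)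
def Wt_270_275 (j : ℕ) : List ℕ := bif Nat.blt j 272 then (Wt_270_272 j) else (Wt_272_275 j)
def Wt_275_277 (j : ℕ) : List ℕ := bif Nat.blt j 276 then [nat_lit 63, nat_lit 0, nat_lit 3, nat_lit 4, nat_lit 0, nat_lit 1, nat_lit 4, nat_lit 3, nat_lit 2, nat_lit 3, nat_lit 0, nat_lit 3, nat_lit 0, nat_lit 2, nat_lit 1, nat_lit 2, nat_lit 2, nat_lit 4, nat_lit 3, nat_lit 4, nat_lit 3, nat_lit 4, nat_lit 0, nat_lit 3, nat_lit 1, nat_lit 3, nat_lit 3, nat_lit 1, nat_lit 2, nat_lit 4, nat_lit 2] else [nat_lit 0, nat_lit 1, nat_lit 4, nat_lit 3, nat_lit 2, nat_lit 3, nat_lit 0, nat_lit 3, nat_lit 0, nat_lit 2, nat_lit 1, nat_lit 2, nat_lit 2, nat_lit 4, nat_lit 3, nat_lit 4, nat_lit 3, nat_lit 4, nat_lit 0, nat_lit 3, nat_lit 1, nat_lit 3, nat_lit 3, nat_lit 1, nat_lit 2, nat_lit 4, nat_lit 2, nat_lit 0, nat_lit 3, nat_lit 4]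
def Wt_278_280 (j : ℕ) : List ℕ := bif Nat.blt j 279 then [nat_lit 63, nat_lit 0, nat_lit 4, nat_lit 1, nat_lit 4, nat_lit 2, nat_lit 0, nat_lit 2, nat_lit 4, nat_lit 1, nat_lit 4, nat_lit 1, nat_lit 2, nat_lit 1] else [nat_lit 63, nat_lit 2, nat_lit 3, nat_lit 4, nat_lit 2, nat_lit 4, nat_lit 1, nat_lit 3, nat_lit 2, nat_lit 4, nat_lit 2, nat_lit 4, nat_lit 1]
def Wt_277_280 (j : ℕ) : List ℕ := bif Nat.blt j 278 then [nat_lit 0, nat_lit 63, nat_lit 0, nat_lit 63] else (Wt_278_280 j)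
def Wt_275_280 (j : ℕ) : List ℕ := bif Nat.blt j 277 then (Wt_275_277 j) else (Wt_277_280 j)
def Wt_270_280 (j : ℕ) : List ℕ := bif Nat.blt j 275 then (Wt_270_275 j) else (Wt_275_280 j)
def Wt_260_280 (j : ℕ) : List ℕ := bif Nat.blt j 270 then (Wt_260_270 j) else (Wt_270_280 j)
def Wt_240_280 (j : ℕ) : List ℕ := bif Nat.blt j 260 then (Wt_240_260 j) else (Wt_260_280 j)
def Wt_280_282 (j : ℕ) : List ℕ := bif Nat.blt j 281 then [nat_lit 63, nat_lit 2, nat_lit 0, nat_lit 2, nat_lit 4, nat_lit 1, nat_lit 4, nat_lit 1, nat_lit 2, nat_lit 1, nat_lit 0, nat_lit 4, nat_lit 1, nat_lit 4] else [nat_lit 63, nat_lit 2, nat_lit 4, nat_lit 1, nat_lit 4, nat_lit 0, nat_lit 1, nat_lit 2, nat_lit 1, nat_lit 4, nat_lit 1, nat_lit 4, nat_lit 2, nat_lit 0]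
def Wt_283_285 (j : ℕ) : List ℕ := bif Nat.blt j 284 then [nat_lit 63, nat_lit 4, nat_lit 2, nat_lit 0, nat_lit 1, nat_lit 4, nat_lit 2, nat_lit 0, nat_lit 1, nat_lit 4, nat_lit 2, nat_lit 0, nat_lit 1] else [nat_lit 63, nat_lit 4, nat_lit 3, nat_lit 0, nat_lit 2, nat_lit 4, nat_lit 2, nat_lit 1, nat_lit 3, nat_lit 3, nat_lit 1, nat_lit 3, nat_lit 0, nat_lit 4, nat_lit 3, nat_lit 4, nat_lit 3, nat_lit 4, nat_lit 2, nat_lit 2, nat_lit 1, nat_lit 2, nat_lit 0, nat_lit 3, nat_lit 0, nat_lit 3, nat_lit 2, nat_lit 3, nat_lit 4, nat_lit 1, nat_lit 0]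
def Wt_282_285 (j : ℕ) : List ℕ := bif Nat.blt j 283 then [nat_lit 63, nat_lit 3, nat_lit 4, nat_lit 1, nat_lit 0, nat_lit 4, nat_lit 3, nat_lit 0, nat_lit 2, nat_lit 4, nat_lit 2, nat_lit 1, nat_lit 3, nat_lit 3, nat_lit 1, nat_lit 3, nat_lit 0, nat_lit 4, nat_lit 3, nat_lit 4, nat_lit 3, nat_lit 4, nat_lit 2, nat_lit 2, nat_lit 1, nat_lit 2, nat_lit 0, nat_lit 3, nat_lit 0, nat_lit 3, nat_lit 2] else (Wt_283_285 j)
def Wt_280_285 (j : ℕ) : List ℕ := bif Nat.blt j 282 then (Wt_280_282 j) else (Wt_282_285 j)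
def Wt_285_287 (j : ℕ) : List ℕ := bif Nat.blt j 286 then [nat_lit 63, nat_lit 1, nat_lit 3, nat_lit 3, nat_lit 1, nat_lit 2, nat_lit 4, nat_lit 2, nat_lit 0, nat_lit 3, nat_lit 4, nat_lit 0, nat_lit 1, nat_lit 4, nat_lit 3, nat_lit 2, nat_lit 3, nat_lit 0, nat_lit 3, nat_lit 0, nat_lit 2, nat_lit 1, nat_lit 2, nat_lit 2, nat_lit 4, nat_lit 3, nat_lit 4, nat_lit 3, nat_lit 4, nat_lit 0, nat_lit 3] else [nat_lit 63, nat_lit 4, nat_lit 1, nat_lit 4, nat_lit 0, nat_lit 1, nat_lit 2, nat_lit 1, nat_lit 4, nat_lit 1, nat_lit 4, nat_lit 2, nat_lit 0, nat_lit 2]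
def Wt_288_290 (j : ℕ) : List ℕ := bif Nat.blt j 289 then [nat_lit 63, nat_lit 3, nat_lit 4, nat_lit 2, nat_lit 3, nat_lit 4, nat_lit 3, nat_lit 4, nat_lit 3, nat_lit 0, nat_lit 4, nat_lit 1, nat_lit 0] else [nat_lit 63, nat_lit 4, nat_lit 3, nat_lit 4, nat_lit 2, nat_lit 2, nat_lit 1, nat_lit 2, nat_lit 0, nat_lit 3, nat_lit 0, nat_lit 3, nat_lit 2, nat_lit 3, nat_lit 4, nat_lit 1, nat_lit 0, nat_lit 4, nat_lit 3, nat_lit 0, nat_lit 2, nat_lit 4, nat_lit 2, nat_lit 1, nat_lit 3, nat_lit 3, nat_lit 1, nat_lit 3, nat_lit 0, nat_lit 4, nat_lit 3]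
def Wt_287_290 (j : ℕ) : List ℕ := bif Nat.blt j 288 then [nat_lit 63, nat_lit 2, nat_lit 4, nat_lit 1, nat_lit 3, nat_lit 2, nat_lit 4, nat_lit 2, nat_lit 4, nat_lit 1, nat_lit 2, nat_lit 3, nat_lit 4] else (Wt_288_290 j)
def Wt_285_290 (j : ℕ) : List ℕ := bif Nat.blt j 287 then (Wt_285_287 j) else (Wt_287_290 j)
def Wt_280_290 (j : ℕ) : List ℕ := bif Nat.blt j 285 then (Wt_280_285 j) else (Wt_285_290 j)
def Wt_290_292 (j : ℕ) : List ℕ := bif Nat.blt j 291 then [nat_lit 63, nat_lit 1, nat_lit 4, nat_lit 0, nat_lit 1, nat_lit 2, nat_lit 1, nat_lit 4, nat_lit 1, nat_lit 4, nat_lit 2, nat_lit 0, nat_lit 2, nat_lit 4] else [nat_lit 63, nat_lit 4, nat_lit 1, nat_lit 4, nat_lit 2, nat_lit 0, nat_lit 2, nat_lit 4, nat_lit 1, nat_lit 4, nat_lit 0, nat_lit 1, nat_lit 2, nat_lit 1]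
def Wt_293_295 (j : ℕ) : List ℕ := bif Nat.blt j 294 then [nat_lit 63, nat_lit 4, nat_lit 1, nat_lit 0, nat_lit 4, nat_lit 3, nat_lit 0, nat_lit 2, nat_lit 4, nat_lit 2, nat_lit 1, nat_lit 3, nat_lit 3, nat_lit 1, nat_lit 3, nat_lit 0, nat_lit 4, nat_lit 3, nat_lit 4, nat_lit 3, nat_lit 4, nat_lit 2, nat_lit 2, nat_lit 1, nat_lit 2, nat_lit 0, nat_lit 3, nat_lit 0, nat_lit 3, nat_lit 2, nat_lit 3] else [nat_lit 63, nat_lit 2, nat_lit 3, nat_lit 4, nat_lit 1, nat_lit 0, nat_lit 4, nat_lit 3, nat_lit 0, nat_lit 2, nat_lit 4, nat_lit 2, nat_lit 1, nat_lit 3, nat_lit 3, nat_lit 1, nat_lit 3, nat_lit 0, nat_lit 4, nat_lit 3, nat_lit 4, nat_lit 3, nat_lit 4, nat_lit 2, nat_lit 2, nat_lit 1, nat_lit 2, nat_lit 0, nat_lit 3, nat_lit 0, nat_lit 3]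
def Wt_292_295 (j : ℕ) : List ℕ := bif Nat.blt j 293 then [nat_lit 63, nat_lit 3, nat_lit 3, nat_lit 1, nat_lit 2, nat_lit 4, nat_lit 2, nat_lit 0, nat_lit 3, nat_lit 4, nat_lit 0, nat_lit 1, nat_lit 4, nat_lit 3, nat_lit 2, nat_lit 3, nat_lit 0, nat_lit 3, nat_lit 0, nat_lit 2, nat_lit 1, nat_lit 2, nat_lit 2, nat_lit 4, nat_lit 3, nat_lit 4, nat_lit 3, nat_lit 4, nat_lit 0, nat_lit 3, nat_lit 1] else (Wt_293_295 j)
def Wt_290_295 (j : ℕ) : List ℕ := bif Nat.blt j 292 then (Wt_290_292 j) else (Wt_292_295 j)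
def Wt_295_297 (j : ℕ) : List ℕ := bif Nat.blt j 296 then [nat_lit 63, nat_lit 4, nat_lit 1, nat_lit 4, nat_lit 2, nat_lit 0, nat_lit 2, nat_lit 4, nat_lit 1, nat_lit 4, nat_lit 1, nat_lit 2, nat_lit 1, nat_lit 0] else [nat_lit 63, nat_lit 3, nat_lit 3, nat_lit 1, nat_lit 3, nat_lit 0, nat_lit 4, nat_lit 3, nat_lit 4, nat_lit 3, nat_lit 4, nat_lit 2, nat_lit 2, nat_lit 1, nat_lit 2, nat_lit 0, nat_lit 3, nat_lit 0, nat_lit 3, nat_lit 2, nat_lit 3, nat_lit 4, nat_lit 1, nat_lit 0, nat_lit 4, nat_lit 3, nat_lit 0, nat_lit 2, nat_lit 4, nat_lit 2, nat_lit 1]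
def Wt_298_300 (j : ℕ) : List ℕ := bif Nat.blt j 299 then [nat_lit 4, nat_lit 2, nat_lit 0, nat_lit 3, nat_lit 4, nat_lit 0, nat_lit 1, nat_lit 4, nat_lit 3, nat_lit 2, nat_lit 3, nat_lit 0, nat_lit 3, nat_lit 0, nat_lit 2, nat_lit 1, nat_lit 2, nat_lit 2, nat_lit 4, nat_lit 3, nat_lit 4, nat_lit 3, nat_lit 4, nat_lit 0, nat_lit 3, nat_lit 1, nat_lit 3, nat_lit 3, nat_lit 1, nat_lit 2] else [nat_lit 63, nat_lit 63, nat_lit 1, nat_lit 63, nat_lit 1, nat_lit 63]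
def Wt_297_300 (j : ℕ) : List ℕ := bif Nat.blt j 298 then [nat_lit 63, nat_lit 3, nat_lit 4, nat_lit 3, nat_lit 4, nat_lit 0, nat_lit 3, nat_lit 1, nat_lit 3, nat_lit 3, nat_lit 1, nat_lit 2, nat_lit 4, nat_lit 2, nat_lit 0, nat_lit 3, nat_lit 4, nat_lit 0, nat_lit 1, nat_lit 4, nat_lit 3, nat_lit 2, nat_lit 3, nat_lit 0, nat_lit 3, nat_lit 0, nat_lit 2, nat_lit 1, nat_lit 2, nat_lit 2, nat_lit 4] else (Wt_298_300 j)
def Wt_295_300 (j : ℕ) : List ℕ := bif Nat.blt j 297 then (Wt_295_297 j) else (Wt_297_300 j)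
def Wt_290_300 (j : ℕ) : List ℕ := bif Nat.blt j 295 then (Wt_290_295 j) else (Wt_295_300 j)
def Wt_280_300 (j : ℕ) : List ℕ := bif Nat.blt j 290 then (Wt_280_290 j) else (Wt_290_300 j)
def Wt_300_302 (j : ℕ) : List ℕ := bif Nat.blt j 301 then [nat_lit 63, nat_lit 63, nat_lit 0, nat_lit 63, nat_lit 0] else [nat_lit 63, nat_lit 0, nat_lit 2, nat_lit 4, nat_lit 1, nat_lit 4, nat_lit 1, nat_lit 2, nat_lit 1, nat_lit 0, nat_lit 4, nat_lit 1, nat_lit 4, nat_lit 2]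
def Wt_303_305 (j : ℕ) : List ℕ := bif Nat.blt j 304 then [nat_lit 63, nat_lit 4, nat_lit 2, nat_lit 3, nat_lit 1, nat_lit 4, nat_lit 2, nat_lit 4, nat_lit 3, nat_lit 2, nat_lit 1, nat_lit 4, nat_lit 2] else [nat_lit 63, nat_lit 4, nat_lit 3, nat_lit 0, nat_lit 4, nat_lit 1, nat_lit 0, nat_lit 3, nat_lit 4, nat_lit 2, nat_lit 3, nat_lit 4, nat_lit 3]
def Wt_302_305 (j : ℕ) : List ℕ := bif Nat.blt j 303 then [nat_lit 63, nat_lit 4, nat_lit 3, nat_lit 4, nat_lit 0, nat_lit 3, nat_lit 1, nat_lit 3, nat_lit 3, nat_lit 1, nat_lit 2, nat_lit 4, nat_lit 2, nat_lit 0, nat_lit 3, nat_lit 4, nat_lit 0, nat_lit 1, nat_lit 4, nat_lit 3, nat_lit 2, nat_lit 3, nat_lit 0, nat_lit 3, nat_lit 0, nat_lit 2, nat_lit 1, nat_lit 2, nat_lit 2, nat_lit 4, nat_lit 3] else (Wt_303_305 j)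
def Wt_300_305 (j : ℕ) : List ℕ := bif Nat.blt j 302 then (Wt_300_302 j) else (Wt_302_305 j)
def Wt_305_307 (j : ℕ) : List ℕ := bif Nat.blt j 306 then [nat_lit 63, nat_lit 2, nat_lit 0, nat_lit 2, nat_lit 4, nat_lit 1, nat_lit 4, nat_lit 0, nat_lit 1, nat_lit 2, nat_lit 1, nat_lit 4, nat_lit 1, nat_lit 4] else [nat_lit 63, nat_lit 1, nat_lit 4, nat_lit 2, nat_lit 4, nat_lit 3, nat_lit 2, nat_lit 1, nat_lit 4, nat_lit 2, nat_lit 4, nat_lit 2, nat_lit 3]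
def Wt_308_310 (j : ℕ) : List ℕ := bif Nat.blt j 309 then [nat_lit 63, nat_lit 3, nat_lit 0, nat_lit 4, nat_lit 1, nat_lit 0, nat_lit 3, nat_lit 4, nat_lit 2, nat_lit 3, nat_lit 4, nat_lit 3, nat_lit 4] else [nat_lit 63, nat_lit 3, nat_lit 0, nat_lit 2, nat_lit 4, nat_lit 2, nat_lit 1, nat_lit 3, nat_lit 3, nat_lit 1, nat_lit 3, nat_lit 0, nat_lit 4, nat_lit 3, nat_lit 4, nat_lit 3, nat_lit 4, nat_lit 2, nat_lit 2, nat_lit 1, nat_lit 2, nat_lit 0, nat_lit 3, nat_lit 0, nat_lit 3, nat_lit 2, nat_lit 3, nat_lit 4, nat_lit 1, nat_lit 0, nat_lit 4]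
def Wt_307_310 (j : ℕ) : List ℕ := bif Nat.blt j 308 then [nat_lit 63, nat_lit 3, nat_lit 4, nat_lit 3, nat_lit 4, nat_lit 2, nat_lit 2, nat_lit 1, nat_lit 2, nat_lit 0, nat_lit 3, nat_lit 0, nat_lit 3, nat_lit 2, nat_lit 3, nat_lit 4, nat_lit 1, nat_lit 0, nat_lit 4, nat_lit 3, nat_lit 0, nat_lit 2, nat_lit 4, nat_lit 2, nat_lit 1, nat_lit 3, nat_lit 3, nat_lit 1, nat_lit 3, nat_lit 0, nat_lit 4] else (Wt_308_310 j)
def Wt_305_310 (j : ℕ) : List ℕ := bif Nat.blt j 307 then (Wt_305_307 j) else (Wt_307_310 j)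
def Wt_300_310 (j : ℕ) : List ℕ := bif Nat.blt j 305 then (Wt_300_305 j) else (Wt_305_310 j)
def Wt_310_312 (j : ℕ) : List ℕ := bif Nat.blt j 311 then [nat_lit 63, nat_lit 2, nat_lit 1, nat_lit 3, nat_lit 3, nat_lit 1, nat_lit 3, nat_lit 0, nat_lit 4, nat_lit 3, nat_lit 4, nat_lit 3, nat_lit 4, nat_lit 2, nat_lit 2, nat_lit 1, nat_lit 2, nat_lit 0, nat_lit 3, nat_lit 0, nat_lit 3, nat_lit 2, nat_lit 3, nat_lit 4, nat_lit 1, nat_lit 0, nat_lit 4, nat_lit 3, nat_lit 0, nat_lit 2, nat_lit 4] else [nat_lit 63, nat_lit 4, nat_lit 2, nat_lit 0, nat_lit 2, nat_lit 4, nat_lit 1, nat_lit 4, nat_lit 0, nat_lit 1, nat_lit 2, nat_lit 1, nat_lit 4, nat_lit 1]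
def Wt_313_315 (j : ℕ) : List ℕ := bif Nat.blt j 314 then [nat_lit 63, nat_lit 4, nat_lit 63, nat_lit 4, nat_lit 63] else [nat_lit 63, nat_lit 63, nat_lit 2, nat_lit 63, nat_lit 2, nat_lit 63]
def Wt_312_315 (j : ℕ) : List ℕ := bif Nat.blt j 313 then [nat_lit 63, nat_lit 63, nat_lit 4, nat_lit 63, nat_lit 4] else (Wt_313_315 j)
def Wt_310_315 (j : ℕ) : List ℕ := bif Nat.blt j 312 then (Wt_310_312 j) else (Wt_312_315 j)
def Wt_315_317 (j : ℕ) : List ℕ := bif Nat.blt j 316 then [nat_lit 63, nat_lit 63, nat_lit 63, nat_lit 63] else [nat_lit 63, nat_lit 63, nat_lit 4, nat_lit 63, nat_lit 4, nat_lit 63]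
def Wt_318_320 (j : ℕ) : List ℕ := bif Nat.blt j 319 then [nat_lit 63, nat_lit 63, nat_lit 0, nat_lit 63, nat_lit 0, nat_lit 63] else [nat_lit 63, nat_lit 63, nat_lit 63, nat_lit 63, nat_lit 63]
def Wt_317_320 (j : ℕ) : List ℕ := bif Nat.blt j 318 then [nat_lit 63, nat_lit 63, nat_lit 3, nat_lit 63, nat_lit 3, nat_lit 63] else (Wt_318_320 j)
def Wt_315_320 (j : ℕ) : List ℕ := bif Nat.blt j 317 then (Wt_315_317 j) else (Wt_317_320 j)
def Wt_310_320 (j : ℕ) : List ℕ := bif Nat.blt j 315 then (Wt_310_315 j) else (Wt_315_320 j)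
def Wt_300_320 (j : ℕ) : List ℕ := bif Nat.blt j 310 then (Wt_300_310 j) else (Wt_310_320 j)
def Wt_280_320 (j : ℕ) : List ℕ := bif Nat.blt j 300 then (Wt_280_300 j) else (Wt_300_320 j)
def Wt_240_320 (j : ℕ) : List ℕ := bif Nat.blt j 280 then (Wt_240_280 j) else (Wt_280_320 j)
def Wt_160_320 (j : ℕ) : List ℕ := bif Nat.blt j 240 then (Wt_160_240 j) else (Wt_240_320 j)
def Wt_0_320 (j : ℕ) : List ℕ := bif Nat.blt j 160 then (Wt_0_160 j) else (Wt_160_320 j)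
def Wt (j : ℕ) : List ℕ := (Wt_0_320 j)
def W (j : ℕ) : List ℕ := bif Nat.blt j 320 then Wt j else []
theorem W_ge (j : ℕ) (h : 320 ≤ j) : W j = [] := by
  unfold W
  rw [blt_false_of_le h]
  rfl
def Hl : List ℕ := []
def isH (y : ℕ) : Bool := List.elem y Hl
def Rb : List (List ℕ) := [[nat_lit 0, nat_lit 0],
  [nat_lit 1, nat_lit 1],
  [nat_lit 1, nat_lit 0, nat_lit 1, nat_lit 0, nat_lit 1, nat_lit 0, nat_lit 1, nat_lit 0, nat_lit 1, nat_lit 0],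
  [nat_lit 2, nat_lit 2],
  [nat_lit 2, nat_lit 0, nat_lit 2, nat_lit 0, nat_lit 2, nat_lit 0, nat_lit 2, nat_lit 0, nat_lit 2, nat_lit 0],
  [nat_lit 2, nat_lit 0, nat_lit 1, nat_lit 0, nat_lit 2, nat_lit 0, nat_lit 2, nat_lit 1, nat_lit 0, nat_lit 1, nat_lit 0],
  [nat_lit 3, nat_lit 3],
  [nat_lit 3, nat_lit 2, nat_lit 3, nat_lit 2],
  [nat_lit 0, nat_lit 2, nat_lit 3, nat_lit 0, nat_lit 3, nat_lit 2, nat_lit 0, nat_lit 1, nat_lit 3, nat_lit 1],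
  [nat_lit 4, nat_lit 4],
  [nat_lit 3, nat_lit 0, nat_lit 3, nat_lit 0, nat_lit 3, nat_lit 0, nat_lit 3, nat_lit 0, nat_lit 3, nat_lit 0, nat_lit 3, nat_lit 0],
  [nat_lit 2, nat_lit 1, nat_lit 2, nat_lit 1, nat_lit 2, nat_lit 1],
  [nat_lit 4, nat_lit 3, nat_lit 4, nat_lit 3, nat_lit 4, nat_lit 3, nat_lit 4, nat_lit 3, nat_lit 4, nat_lit 3],
  [nat_lit 0, nat_lit 3, nat_lit 4, nat_lit 2, nat_lit 3, nat_lit 4, nat_lit 3, nat_lit 4, nat_lit 3, nat_lit 0, nat_lit 4, nat_lit 1],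
  [nat_lit 0, nat_lit 2, nat_lit 4, nat_lit 1, nat_lit 0, nat_lit 2, nat_lit 4, nat_lit 1, nat_lit 0, nat_lit 2, nat_lit 4, nat_lit 1],
  [nat_lit 1, nat_lit 4, nat_lit 2, nat_lit 4, nat_lit 2, nat_lit 3, nat_lit 1, nat_lit 4, nat_lit 2, nat_lit 4, nat_lit 3, nat_lit 2],
  [nat_lit 4, nat_lit 1, nat_lit 4, nat_lit 2, nat_lit 0, nat_lit 2, nat_lit 4, nat_lit 1, nat_lit 4, nat_lit 1, nat_lit 2, nat_lit 1, nat_lit 0],
  [nat_lit 1, nat_lit 2, nat_lit 2, nat_lit 4, nat_lit 3, nat_lit 4, nat_lit 3, nat_lit 4, nat_lit 0, nat_lit 3, nat_lit 1, nat_lit 3, nat_lit 3, nat_lit 1, nat_lit 2, nat_lit 4, nat_lit 2, nat_lit 0, nat_lit 3, nat_lit 4, nat_lit 0, nat_lit 1, nat_lit 4, nat_lit 3, nat_lit 2, nat_lit 3, nat_lit 0, nat_lit 3, nat_lit 0, nat_lit 2],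
  []]
def spT_0_2 (j : ℕ) : ℕ := bif Nat.blt j 1 then nat_lit 0x1400a0000c00b0001601a0000601b0000601e0000c02000018020000060210000801f0000401b0001601e0000a01e000000080000c01e0000a0200000201d0000e01e0000c01f000080200000001a000000180000c01a0000401c000000100001401a0000801a0001201b0000e01a000000140000601c000000040000401d0000201a0000c01b0000201800010010000020100000400a0000a00b000000060001000a0000600a0000a0100001000a0000800a0000001600002016000000060000800b00000000000000000000c00a000000020000200b0000e00b0000c01000012010000020080000200e000040100000200400000016000020160000000e else nat_lit 0x40100001400b0000600b0000c0100000200a0001401a0000801000014020000020040000000c0000a0100000201c0000601f0000801e0000001d0000801b0001001a0001602000004021000020140000601d0000e01b000020080000200b0000000a0001000b0000000b00006010000100100000600b0000c00a0001200a0000c00b0000400b0000001c0001200a0000400b0000a00a000060100000800b0001401b0000e0100000000c0000401f0000001b00000021000120200000e02000000020000080210001200b000020210000c0210001601b0000201b0000401a0001201a0000601a0000a00b0000200a0000a01b0000e00a000000020000e00b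
def spT_3_5 (j : ℕ) : ℕ := bif Nat.blt j 4 then nat_lit 0x23000100200001001b0000000b000160230000401e0001601f000320220000c0200000e01b0001401b0003a0220001401f0001401e00020023000060220001a0230001202000008023000120220001201f0001c0230001201b00008022000120230000401f000000020000401c0000601c0001601b0000800a0003a02200022022000040230000201e0000a0210000401d0000201f0000e01f0000801a000040230001601e000360230000801b0001202200026022000300230000401a0000a022000020220001201a0001401e0001c023000180230000201c000340230000e02200000002000000220000601a0000601d0001001f000380220001201e else nat_lit 0x24000000000000000c00000012000000240000000600000012000000120000c0210001e023000160230001001a0002e0230000c01e0000e0210000e01a0000601e0000a022000080200000000000000002000200220000802200022023000000200000a0230000e023000160220000802100016021000300230000201a0000601f0001402100014022000140230000201d0000c02300012021000060200000001f00018020000000000002a02200022022000100210000000200014021000180210000c01a0002c022000100220000a01b000000060000000c000000000002c0230000001e0000001d0000e01e000300220000001c0001001e00024022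
def spT_2_5 (j : ℕ) : ℕ := bif Nat.blt j 3 then nat_lit 0x200220000602300000022000160200001601a000060230000a01a0001001b0000a00a000240220001a0230000602100016021000020200000e0200000e0210000c01b000000210001400b0000a021000000180000202000006020000040210000601b0000201b0000402000018021000100200000201800014020000020210000a01f0000401e0000201e0000e01f0000201f0000401b0000c01f0000001b0000001a00000004000000100000000a0001400a0001200b000020100000e0100000000e0000600a000000140000e00a0001000b0000400a000020140000200e0000801000000008000000240000000c00000006000000120000001200012010 else (spT_3_5 j)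
def spT_0_5 (j : ℕ) : ℕ := bif Nat.blt j 2 then (spT_0_2 j) else (spT_2_5 j)
def spT (j : ℕ) : ℕ := (spT_0_5 j)
def sp (j : ℕ) : ℕ := Nat.land (Nat.shiftRight (spT (Nat.shiftRight j 6)) (Nat.mul (Nat.land j 63) 32)) 4294967295
theorem Eo_lt (r : ℕ) : Eo r < 18014398509481984 := land54_lt _
def cT (j : ℕ) : ℕ := nat_lit 0x0
noncomputable def cChunk (h : ℕ) : ℕ := Nat.rec (motive := fun _ => ℕ) (cT 0) (fun n _ => cT (Nat.succ n)) h
noncomputable def cF (i : ℕ) : ℕ := Nat.land (Nat.shiftRight (cChunk (Nat.shiftRight i 7)) (Nat.mul (Nat.land i 127) 24)) 16777215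
theorem cF_lt (i : ℕ) : cF i < 16777216 := land24_lt _
theorem cF_zero : cF 0 = 0 := by decide +kernel
def nDef : ℕ := 79340
def nEv : ℕ := 143129
def nW : ℕ := 320
def N : ℕ := 1
def ys : List ℕ := [nat_lit 0, nat_lit 1, nat_lit 2, nat_lit 3, nat_lit 4]
def xw : List ℕ := [nat_lit 1, nat_lit 2, nat_lit 2, nat_lit 4, nat_lit 3, nat_lit 4, nat_lit 3, nat_lit 4, nat_lit 0, nat_lit 3, nat_lit 1, nat_lit 3, nat_lit 3, nat_lit 1, nat_lit 2, nat_lit 4, nat_lit 2, nat_lit 0, nat_lit 3, nat_lit 4, nat_lit 0, nat_lit 1, nat_lit 4, nat_lit 3, nat_lit 2, nat_lit 3, nat_lit 0, nat_lit 3, nat_lit 0, nat_lit 2]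
end Cfsg.Agent.Lib.ToddCox.J1X
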